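import Mathlib
import Cfsg.Agent.Lib.Helper12.TCG.WPres
import Cfsg.Prelude.Def_KGroupFacts

/-!
Central extensions with a kernel of odd order: an involution of the quotient has exactly one lift which is an
involution, and a relation between involutions which says that a product of two of them has a given order, or
that the product of three of them is trivial, holds for the lifts as well.  Hence a group presented by such
relations between involutions maps onto every stem extension with a kernel of odd order of a quotient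
of it (helper12).
-/

set_option autoImplicit false

namespace Cfsg.Agent.Lib.Helper12.McLM.OddLift

open Cfsg.Agent.Lib.Helper12.TC Cfsg.Agent.Lib.Helper12.TCG
open scoped commutatorElement

section Lift

variable {Γ G : Type*} [Group Γ] [Group G] (σ : Γ →* G)

theorem eq_one_of_sq_of_odd [Finite Γ] (hodd : Odd (Nat.card σ.ker)) {c : Γ} (hc : c ∈ σ.ker)
    (h2 : c * c = 1) : c = 1 := by
  have h1 : orderOf (⟨c, hc⟩ : σ.ker) ∣ Nat.card σ.ker := orderOf_dvd_natCard _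
  have h3 : orderOf (⟨c, hc⟩ : σ.ker) ∣ 2 := by
    apply orderOf_dvd_of_pow_eq_one
    apply Subtype.ext
    rw [pow_two]
    exact h2
  have h4 : orderOf (⟨c, hc⟩ : σ.ker) = 1 := by
    have hcop : Nat.Coprime (Nat.card σ.ker) 2 := Nat.Coprime.symm (Nat.coprime_two_left.mpr hodd)
    exact Nat.eq_one_of_dvd_coprimes hcop h1 h3
  have h5 := orderOf_eq_one_iff.mp h4
  exact congrArg Subtype.val h5

theorem exists_invol_lift [Finite Γ] (hs : Function.Surjective σ) (hcen : σ.ker ≤ Subgroup.center Γ)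
    (hodd : Odd (Nat.card σ.ker)) {g : G} (hg : g * g = 1) : ∃ y : Γ, σ y = g ∧ y * y = 1 := by
  obtain ⟨y0, hy0⟩ := hs g
  have hk : y0 * y0 ∈ σ.ker := by
    rw [MonoidHom.mem_ker, map_mul, hy0, hg]
  obtain ⟨m, hm⟩ := hodd
  set k : σ.ker := ⟨y0 * y0, hk⟩ with hkdef
  have hkn : k ^ (2 * m + 1) = 1 := by
    rw [← hm]
    exact pow_card_eq_one'
  set j : σ.ker := k ^ (m + 1) with hjdef
  have hj2 : j * j = k := by
    rw [hjdef, ← pow_add]
    have : m + 1 + (m + 1) = (2 * m + 1) + 1 := by ring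
    rw [this, pow_succ, hkn, one_mul]
  have hjc : ∀ x : Γ, x * (j : Γ) = (j : Γ) * x := by
    intro x
    exact (Subgroup.mem_center_iff.mp (hcen j.2) x)
  refine ⟨y0 * (j : Γ)⁻¹, ?_, ?_⟩
  · rw [map_mul, map_inv, hy0, MonoidHom.mem_ker.mp j.2, inv_one, mul_one]
  · have hj2' : (j : Γ) * (j : Γ) = y0 * y0 := congrArg Subtype.val hj2
    have hjc' : ∀ x : Γ, x * (j : Γ)⁻¹ = (j : Γ)⁻¹ * x := by
      intro x
      have := hjc x
      calc x * (j : Γ)⁻¹ = (j : Γ)⁻¹ * ((j : Γ) * x) * (j : Γ)⁻¹ := by group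
        _ = (j : Γ)⁻¹ * (x * (j : Γ)) * (j : Γ)⁻¹ := by rw [this]
        _ = (j : Γ)⁻¹ * x := by group
    calc y0 * (j : Γ)⁻¹ * (y0 * (j : Γ)⁻¹) = y0 * ((j : Γ)⁻¹ * y0) * (j : Γ)⁻¹ := by group
      _ = y0 * (y0 * (j : Γ)⁻¹) * (j : Γ)⁻¹ := by rw [hjc' y0]
      _ = (y0 * y0) * ((j : Γ) * (j : Γ))⁻¹ := by group
      _ = 1 := by rw [hj2', mul_inv_cancel]

theorem invol_lift_unique [Finite Γ] (hcen : σ.ker ≤ Subgroup.center Γ) (hodd : Odd (Nat.card σ.ker))
    {y1 y2 : Γ} (h1 : y1 * y1 = 1) (h2 : y2 * y2 = 1) (h : σ y1 = σ y2) : y1 = y2 := by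
  have hc : y1⁻¹ * y2 ∈ σ.ker := by
    rw [MonoidHom.mem_ker, map_mul, map_inv, h, inv_mul_cancel]
  have hcc : ∀ x : Γ, x * (y1⁻¹ * y2) = (y1⁻¹ * y2) * x :=
    fun x => Subgroup.mem_center_iff.mp (hcen hc) x
  have hy1 : y1⁻¹ = y1 := inv_eq_of_mul_eq_one_right h1
  have hsq : (y1⁻¹ * y2) * (y1⁻¹ * y2) = 1 := by
    calc (y1⁻¹ * y2) * (y1⁻¹ * y2) = y1⁻¹ * (y2 * (y1⁻¹ * y2)) := by group
      _ = y1⁻¹ * ((y1⁻¹ * y2) * y2) := by rw [hcc y2]
      _ = y1⁻¹ * y1⁻¹ * (y2 * y2) := by group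
      _ = 1 := by rw [h2, hy1, h1, mul_one]
  have := eq_one_of_sq_of_odd σ hodd hc hsq
  calc y1 = y1 * (y1⁻¹ * y2) := by rw [this, mul_one]
    _ = y2 := by group

theorem dih_lift [Finite Γ] (hcen : σ.ker ≤ Subgroup.center Γ) (hodd : Odd (Nat.card σ.ker))
    {u v : Γ} (hu : u * u = 1) (hv : v * v = 1) (m : ℕ) (h : σ ((u * v) ^ m) = 1) :
    (u * v) ^ m = 1 := by
  have hk : (u * v) ^ m ∈ σ.ker := MonoidHom.mem_ker.mpr h
  have hkc : ∀ x : Γ, x * (u * v) ^ m = (u * v) ^ m * x :=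
    fun x => Subgroup.mem_center_iff.mp (hcen hk) x
  have hui : u⁻¹ = u := inv_eq_of_mul_eq_one_right hu
  have hvi : v⁻¹ = v := inv_eq_of_mul_eq_one_right hv
  have hconj : u * (u * v) ^ m * u⁻¹ = ((u * v) ^ m)⁻¹ := by
    rw [← conj_pow, ← inv_pow]
    congr 1
    rw [mul_inv_rev, hui, hvi]
    calc u * (u * v) * u = (u * u) * v * u := by group
      _ = v * u := by rw [hu, one_mul]
  have hinv : ((u * v) ^ m)⁻¹ = (u * v) ^ m := by
    rw [← hconj, hkc u]
    group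
  have hsq : (u * v) ^ m * (u * v) ^ m = 1 := by
    nth_rewrite 1 [← hinv]
    exact inv_mul_cancel _
  exact eq_one_of_sq_of_odd σ hodd hk hsq

theorem klein_lift [Finite Γ] (hcen : σ.ker ≤ Subgroup.center Γ) (hodd : Odd (Nat.card σ.ker))
    {u v w : Γ} (hu : u * u = 1) (hv : v * v = 1) (hw : w * w = 1) (h : σ (u * v * w) = 1) :
    u * v * w = 1 := by
  have hwi : w⁻¹ = w := inv_eq_of_mul_eq_one_right hw
  have h1 : σ (u * v) = σ w := by
    rw [map_mul] at h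
    have := eq_inv_of_mul_eq_one_left h
    rw [this, ← map_inv, hwi]
  have h2 : σ ((u * v) ^ 2) = 1 := by
    rw [map_pow, h1, ← map_pow, pow_two, hw, map_one]
  have h3 := dih_lift σ hcen hodd hu hv 2 h2
  rw [pow_two] at h3
  have h4 : u * v = w := invol_lift_unique σ hcen hodd h3 hw h1
  rw [h4, hw]

end Lift

section Words

variable {Γ : Type*} [Group Γ]

/-- the word of a conjugate of a letter -/
def cj (w : List ℕ) (i : ℕ) : List ℕ := w.reverse ++ i :: w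

theorem wprod_reverse (f : ℕ → Γ) (hf : ∀ s, f s * f s = 1) (w : List ℕ) :
    wprod f w.reverse = (wprod f w)⁻¹ := by
  induction w with
  | nil => simp [wprod_nil]
  | cons s w ih =>
    rw [List.reverse_cons, wprod_append, ih, wprod_cons, wprod_cons, wprod_nil, mul_one, mul_inv_rev,
      inv_eq_of_mul_eq_one_right (hf s)]

theorem wprod_cj (f : ℕ → Γ) (hf : ∀ s, f s * f s = 1) (w : List ℕ) (i : ℕ) :
    wprod f (cj w i) = (wprod f w)⁻¹ * f i * wprod f w := by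
  unfold cj
  rw [wprod_append, wprod_cons, wprod_reverse f hf, mul_assoc]

theorem wprod_cj_sq (f : ℕ → Γ) (hf : ∀ s, f s * f s = 1) (w : List ℕ) (i : ℕ) :
    wprod f (cj w i) * wprod f (cj w i) = 1 := by
  rw [wprod_cj f hf]
  calc (wprod f w)⁻¹ * f i * wprod f w * ((wprod f w)⁻¹ * f i * wprod f w)
      = (wprod f w)⁻¹ * (f i * f i) * wprod f w := by group
    _ = 1 := by rw [hf i]; group

theorem wprod_flatten_replicate (f : ℕ → Γ) (m : ℕ) (l : List ℕ) :
    wprod f (List.replicate m l).flatten = wprod f l ^ m := by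
  induction m with
  | zero => simp [wprod_nil]
  | succ m ih =>
    rw [List.replicate_succ, List.flatten_cons, wprod_append, ih, pow_succ']

/-- the shapes of the relators -/
inductive Cert where
  | dih (w1 : List ℕ) (i1 : ℕ) (w2 : List ℕ) (i2 : ℕ) (m : ℕ) : Cert
  | klein (w1 : List ℕ) (i1 : ℕ) (w2 : List ℕ) (i2 : ℕ) (w3 : List ℕ) (i3 : ℕ) : Cert

/-- the relator of a shape -/
def Cert.word : Cert → List ℕ
  | .dih w1 i1 w2 i2 m => (List.replicate m (cj w1 i1 ++ cj w2 i2)).flatten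
  | .klein w1 i1 w2 i2 w3 i3 => cj w1 i1 ++ cj w2 i2 ++ cj w3 i3

end Words

section Main

variable {Γ G : Type*} [Group Γ] [Group G] (σ : Γ →* G)

theorem lift_rel [Finite Γ] (hcen : σ.ker ≤ Subgroup.center Γ) (hodd : Odd (Nat.card σ.ker))
    (f : ℕ → Γ) (hf : ∀ s, f s * f s = 1) (c : Cert)
    (h : wprod (fun s => σ (f s)) c.word = 1) : wprod f c.word = 1 := by
  rw [WPres.wprod_map σ f] at h
  cases c with
  | dih w1 i1 w2 i2 m =>
    simp only [Cert.word] at h ⊢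
    rw [wprod_flatten_replicate, wprod_append] at h ⊢
    exact dih_lift σ hcen hodd (wprod_cj_sq f hf w1 i1) (wprod_cj_sq f hf w2 i2) m h
  | klein w1 i1 w2 i2 w3 i3 =>
    simp only [Cert.word] at h ⊢
    rw [wprod_append, wprod_append] at h ⊢
    exact klein_lift σ hcen hodd (wprod_cj_sq f hf w1 i1) (wprod_cj_sq f hf w2 i2)
      (wprod_cj_sq f hf w3 i3) h

/-- a subgroup of a stem extension which maps onto the quotient is everything -/
theorem eq_top_of_map_eq_top (hσ : Cfsg.IsStemExtension σ) (Δ : Subgroup Γ) (h : Δ.map σ = ⊤) :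
    Δ = ⊤ := by
  obtain ⟨_, hcen, hder⟩ := hσ
  have hdec : ∀ γ : Γ, ∃ d ∈ Δ, ∃ k ∈ σ.ker, γ = d * k := by
    intro γ
    have : σ γ ∈ Δ.map σ := by rw [h]; trivial
    obtain ⟨d, hd, hdγ⟩ := this
    refine ⟨d, hd, d⁻¹ * γ, ?_, by group⟩
    rw [MonoidHom.mem_ker, map_mul, map_inv, hdγ, inv_mul_cancel]
  have hcomm : commutator Γ ≤ Δ := by
    rw [commutator_def, Subgroup.commutator_le]
    intro a _ b _
    obtain ⟨d1, hd1, k1, hk1, rfl⟩ := hdec a
    obtain ⟨d2, hd2, k2, hk2, rfl⟩ := hdec b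
    have c1 : ∀ x : Γ, x * k1 = k1 * x := fun x => Subgroup.mem_center_iff.mp (hcen hk1) x
    have c2 : ∀ x : Γ, x * k2 = k2 * x := fun x => Subgroup.mem_center_iff.mp (hcen hk2) x
    have : ⁅d1 * k1, d2 * k2⁆ = ⁅d1, d2⁆ := by
      rw [commutatorElement_def, commutatorElement_def]
      have e1 : (d1 * k1)⁻¹ = d1⁻¹ * k1⁻¹ := by
        rw [mul_inv_rev]
        have := c1 d1⁻¹
        calc k1⁻¹ * d1⁻¹ = k1⁻¹ * (d1⁻¹ * k1) * k1⁻¹ := by group
          _ = k1⁻¹ * (k1 * d1⁻¹) * k1⁻¹ := by rw [this]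
          _ = d1⁻¹ * k1⁻¹ := by group
      have e2 : (d2 * k2)⁻¹ = d2⁻¹ * k2⁻¹ := by
        rw [mul_inv_rev]
        have := c2 d2⁻¹
        calc k2⁻¹ * d2⁻¹ = k2⁻¹ * (d2⁻¹ * k2) * k2⁻¹ := by group
          _ = k2⁻¹ * (k2 * d2⁻¹) * k2⁻¹ := by rw [this]
          _ = d2⁻¹ * k2⁻¹ := by group
      rw [e1, e2]
      calc d1 * k1 * (d2 * k2) * (d1⁻¹ * k1⁻¹) * (d2⁻¹ * k2⁻¹)
          = d1 * (k1 * d2) * (k2 * d1⁻¹) * (k1⁻¹ * d2⁻¹) * k2⁻¹ := by group
        _ = d1 * (d2 * k1) * (d1⁻¹ * k2) * (k1⁻¹ * d2⁻¹) * k2⁻¹ := by rw [c1 d2, c2 d1⁻¹]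
        _ = d1 * d2 * (k1 * d1⁻¹) * (k2 * k1⁻¹) * d2⁻¹ * k2⁻¹ := by group
        _ = d1 * d2 * (d1⁻¹ * k1) * (k1⁻¹ * k2) * d2⁻¹ * k2⁻¹ := by rw [c1 d1⁻¹, c2 k1⁻¹]
        _ = d1 * d2 * d1⁻¹ * (k2 * d2⁻¹) * k2⁻¹ := by group
        _ = d1 * d2 * d1⁻¹ * (d2⁻¹ * k2) * k2⁻¹ := by rw [c2 d2⁻¹]
        _ = d1 * d2 * d1⁻¹ * d2⁻¹ := by group
    rw [this, commutatorElement_def]
    exact Δ.mul_mem (Δ.mul_mem (Δ.mul_mem hd1 hd2) (Δ.inv_mem hd1)) (Δ.inv_mem hd2)
  rw [eq_top_iff]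
  intro γ _
  obtain ⟨d, hd, k, hk, rfl⟩ := hdec γ
  exact Δ.mul_mem hd (hcomm (hder hk))

/-- a group presented by relators of the shapes above on involutions maps onto every finite stem extension
with a kernel of odd order of a group generated by involutions which satisfy the relators -/
theorem exists_surj_of_odd_stem [Finite Γ] (hσ : Cfsg.IsStemExtension σ) (hodd : Odd (Nat.card σ.ker))
    (n : ℕ) (baseL : List (List ℕ)) (hlet : lettersK n baseL = true) (certs : List Cert)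
    (hshape : ∀ b ∈ baseL, b = [] ∨ (∃ s, b = [s, s]) ∨ ∃ c ∈ certs, b = c.word)
    (hsq : ∀ s < n, [s, s] ∈ baseL)
    (x : ℕ → G) (hx : ∀ b ∈ baseL, wprod x b = 1)
    (hgen : Subgroup.closure {y | ∃ s < n, y = x s} = ⊤) :
    ∃ ψ : WPres.Grp n baseL →* Γ, Function.Surjective ψ ∧
      ∀ s < n, σ (ψ (WPres.v n baseL s)) = x s := by
  have hcen := hσ.2.1
  have hxsq : ∀ s < n, x s * x s = 1 := by
    intro s hs
    have := hx _ (hsq s hs)
    rwa [wprod_cons, wprod_cons, wprod_nil, mul_one] at this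
  -- the lifts
  have hex : ∀ s : ℕ, ∃ y : Γ, (s < n → σ y = x s) ∧ y * y = 1 := by
    intro s
    by_cases hs : s < n
    · obtain ⟨y, hy1, hy2⟩ := exists_invol_lift σ hσ.1 hcen hodd (hxsq s hs)
      exact ⟨y, fun _ => hy1, hy2⟩
    · exact ⟨1, fun h => absurd h hs, mul_one 1⟩
  choose f hf1 hf2 using hex
  have hw : ∀ b ∈ baseL, wprod f b = 1 := by
    intro b hb
    have hbl : ∀ s ∈ b, s < n := fun s hs => lettersK_lt hlet hb hs
    have hσf : wprod (fun s => σ (f s)) b = wprod x b := by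
      have : ∀ l : List ℕ, (∀ s ∈ l, s < n) → wprod (fun s => σ (f s)) l = wprod x l := by
        intro l
        induction l with
        | nil => intro _; rfl
        | cons s l ih =>
          intro hl
          rw [wprod_cons, wprod_cons, ih (fun t ht => hl t (List.mem_cons_of_mem _ ht)),
            hf1 s (hl s List.mem_cons_self)]
      exact this b hbl
    rcases hshape b hb with rfl | ⟨s, rfl⟩ | ⟨c, _, rfl⟩
    · rfl
    · rw [wprod_cons, wprod_cons, wprod_nil, mul_one]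
      exact hf2 s
    · apply lift_rel σ hcen hodd f hf2 c
      rw [hσf]
      exact hx _ hb
  obtain ⟨ψ, hψ⟩ := WPres.hlift n baseL hlet f hw
  refine ⟨ψ, ?_, ?_⟩
  · rw [← MonoidHom.range_eq_top]
    apply eq_top_of_map_eq_top σ hσ
    rw [eq_top_iff, ← hgen, Subgroup.closure_le]
    rintro y ⟨s, hs, rfl⟩
    exact ⟨ψ (WPres.v n baseL s), ⟨_, rfl⟩, by rw [hψ s hs]; exact hf1 s hs⟩
  · intro s hs
    rw [hψ s hs]
    exact hf1 s hs

end Main

end Cfsg.Agent.Lib.Helper12.McLM.OddLift
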