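import Cfsg.Agent.Lib.Helper12.TCG.WPres

/-!
A presentation of the double cover of the alternating group of degree eight on four involutions: every relator
says that a product of two conjugates of letters has a given order or that a product of three conjugates of
letters is trivial (helper12).
-/

set_option autoImplicit false
set_option maxRecDepth 100000

namespace Cfsg.Agent.Lib.Helper12.McLM.Pres4

open Cfsg.Agent.Lib.Helper12.TC Cfsg.Agent.Lib.Helper12.TCG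

/-- the base words: the relators, the letters with their inverses, the empty word -/
def baseL : List (List ℕ) :=
  [[3, 1, 0, 1, 3, 1, 0, 1, 3, 1, 0, 1, 3, 1, 0, 1],
   [0, 3, 0, 1, 3, 1, 0, 3, 0, 3, 0, 1, 3, 1, 0, 3],
   [0, 2, 0, 3, 2, 3, 0, 2, 0, 2, 0, 3, 2, 3, 0, 2],
   [3, 0, 2, 0, 3, 0, 2, 0, 3, 0, 2, 0, 3, 0, 2, 0],
   [0, 2, 3, 0, 2, 0, 3, 2, 0, 2, 3, 0, 2, 0, 3, 2],
   [0, 3, 2, 0, 3, 0, 2, 3, 0, 3, 2, 0, 3, 0, 2, 3],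
   [2, 3, 2, 0, 2, 3, 2, 0, 2, 3, 2, 0, 2, 3, 2, 0],
   [0, 3, 0, 2, 3, 2, 0, 3, 0, 3, 0, 2, 3, 2, 0, 3],
   [1, 2, 3, 1, 2, 1, 3, 2, 1, 2, 3, 1, 2, 1, 3, 2],
   [2, 3, 2, 1, 2, 3, 2, 1, 2, 3, 2, 1, 2, 3, 2, 1],
   [2, 0, 3, 0, 2, 1, 3, 2, 0, 1, 0, 2, 3, 1, 0, 3, 0],
   [3, 0, 2, 1, 0, 1, 2, 0, 3, 2, 1, 0, 1, 2, 1, 0, 1],
   [3, 0, 2, 3, 2, 0, 3, 0, 1, 2, 3, 2, 1, 0, 2, 3, 2],
   [0, 2, 0, 2, 3, 2, 0, 2, 0, 2, 3, 2, 0, 2, 0, 2, 3, 2],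
   [2, 0, 1, 0, 2, 3, 1, 2, 1, 3, 1, 0, 1, 0, 2, 0, 1, 0, 1],
   [0, 1, 0, 1, 2, 1, 0, 1, 0, 3, 1, 2, 1, 3, 2, 0, 1, 0, 2],
   [1, 0, 2, 1, 0, 1, 2, 0, 1, 3, 1, 2, 1, 3, 0, 1, 2, 1, 0],
   [0, 0],
   [1, 1],
   [2, 2],
   [3, 3],
   []]

/-- the inverse letters -/
def cIV : ℕ := 18364758544493064720

/-- the presented group -/
abbrev Grp : Type := WPres.Grp 4 baseL

/-- the letters as elements of the presented group -/
def v : ℕ → Grp := WPres.v 4 baseL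

theorem hiv : ivK cIV 4 = true := by decide

theorem hlet : lettersK 4 baseL = true := by decide

theorem hbase : ∀ b ∈ baseL, wprod v b = 1 := WPres.hbase 4 baseL

theorem hvge : ∀ s, ¬ s < 4 → v s = 1 := WPres.hvge 4 baseL

theorem hvinv : ∀ s < 4, v (invS cIV s) = (v s)⁻¹ :=
  WPres.hvinv 4 baseL cIV (by decide)

theorem hgen : ∀ γ : Grp, γ ∈ Subgroup.closure {y | ∃ x < 4, y = v x} := WPres.hgen 4 baseL

theorem hlift {N : ℕ} (f : ℕ → Equiv.Perm (Fin N)) (hf : ∀ s < 4, f (invS cIV s) = (f s)⁻¹)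
    (hw : ∀ b ∈ baseL, wprod f b = 1) :
    ∃ ρ : Grp →* Equiv.Perm (Fin N), ∀ x < 4, ρ (v x) = f x :=
  WPres.hliftPerm 4 baseL hlet cIV f hf hw

/-- the universal property -/
theorem hliftG {K : Type*} [Group K] (f : ℕ → K) (hw : ∀ b ∈ baseL, wprod f b = 1) :
    ∃ ρ : Grp →* K, ∀ x < 4, ρ (v x) = f x :=
  WPres.hlift 4 baseL hlet f hw

end Cfsg.Agent.Lib.Helper12.McLM.Pres4
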