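import Cfsg.Agent.Lib.Helper12.McLM.OddLift
import Cfsg.Agent.Lib.Helper12.McLM.Pres4
import Cfsg.Agent.Lib.Helper12.McLM.Pres5

/-!
The shapes of the relators of the two presentations (generated, helper12).
-/

set_option autoImplicit false
set_option maxRecDepth 100000

namespace Cfsg.Agent.Lib.Helper12.McLM.Certs

open Cfsg.Agent.Lib.Helper12.McLM.OddLift

/-- the shapes of the relators on the first four letters -/
def certs4 : List Cert :=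
  [.dih [] 3 [1] 0 4,
   .dih [] 0 [1, 0, 3] 3 2,
   .dih [] 0 [3, 0, 2] 2 2,
   .dih [] 3 [0] 2 4,
   .dih [] 0 [0, 3, 2] 2 2,
   .dih [] 0 [0, 2, 3] 3 2,
   .dih [2] 3 [2, 0] 3 2,
   .dih [] 0 [2, 0, 3] 3 2,
   .dih [] 1 [1, 3, 2] 2 2,
   .dih [2] 3 [2, 1] 3 2,
   .klein [0, 2] 3 [0, 2, 3, 1] 1 [0] 3,
   .klein [1, 2, 0, 3] 0 [1, 2] 0 [1] 0,
   .klein [2, 0, 3] 3 [2, 1, 0] 3 [2] 3,
   .dih [0] 2 [2] 3 3,
   .klein [0, 2] 1 [1, 3] 2 [0, 1, 0, 1] 2,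
   .klein [1, 0, 1, 0] 2 [1, 3] 2 [0, 2] 1,
   .klein [1, 2, 0, 1] 0 [1, 3] 2 [1, 0] 2]

/-- the shapes of the further relators -/
def certs5b : List Cert :=
  [.dih [] 3 [2, 4] 3 2,
   .dih [] 4 [3] 2 3,
   .klein [3, 0, 1, 0] 1 [1] 3 [] 3,
   .klein [2, 4] 3 [1, 2, 1] 3 [] 3,
   .klein [2, 4] 3 [1, 3, 1] 2 [] 2,
   .klein [2, 4] 3 [1, 3, 2] 2 [] 1,
   .klein [3] 2 [1, 4, 2, 1] 3 [] 2,
   .klein [] 4 [0, 3, 1, 4, 1, 0] 1 [] 3,
   .klein [0, 3] 4 [0, 3, 4, 1] 1 [] 0,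
   .klein [2, 4, 0] 3 [1, 3] 2 [1] 2,
   .dih [] 2 [0] 4 4,
   .klein [2, 4] 3 [1, 3, 2] 0 [1, 3] 0,
   .klein [2, 4] 3 [0, 3, 1] 2 [0, 3] 2]

/-- the shapes of all the relators -/
def certs5 : List Cert := certs4 ++ certs5b

theorem base4_eq : Pres4.baseL = certs4.map Cert.word ++ [[0, 0], [1, 1], [2, 2], [3, 3], []] := by
  decide

theorem base5_eq : Pres5.baseL = certs5.map Cert.word ++ [[0, 0], [1, 1], [2, 2], [3, 3], [4, 4], []] := by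
  decide

theorem shape_of_eq {baseL : List (List ℕ)} {certs : List Cert} {sq : List (List ℕ)}
    (h : baseL = certs.map Cert.word ++ sq) (hsq : ∀ b ∈ sq, b = [] ∨ ∃ s, b = [s, s]) :
    ∀ b ∈ baseL, b = [] ∨ (∃ s, b = [s, s]) ∨ ∃ c ∈ certs, b = c.word := by
  intro b hb
  rw [h, List.mem_append] at hb
  rcases hb with hb | hb
  · obtain ⟨c, hc, rfl⟩ := List.mem_map.mp hb
    exact Or.inr (Or.inr ⟨c, hc, rfl⟩)
  · rcases hsq b hb with h1 | h1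
    · exact Or.inl h1
    · exact Or.inr (Or.inl h1)

theorem shape4 : ∀ b ∈ Pres4.baseL, b = [] ∨ (∃ s, b = [s, s]) ∨ ∃ c ∈ certs4, b = c.word := by
  apply shape_of_eq base4_eq
  intro b hb
  simp only [List.mem_cons, List.not_mem_nil, or_false] at hb
  rcases hb with rfl | rfl | rfl | rfl | rfl
  · exact Or.inr ⟨0, rfl⟩
  · exact Or.inr ⟨1, rfl⟩
  · exact Or.inr ⟨2, rfl⟩
  · exact Or.inr ⟨3, rfl⟩
  · exact Or.inl rfl

theorem shape5 : ∀ b ∈ Pres5.baseL, b = [] ∨ (∃ s, b = [s, s]) ∨ ∃ c ∈ certs5, b = c.word := by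
  apply shape_of_eq base5_eq
  intro b hb
  simp only [List.mem_cons, List.not_mem_nil, or_false] at hb
  rcases hb with rfl | rfl | rfl | rfl | rfl | rfl
  · exact Or.inr ⟨0, rfl⟩
  · exact Or.inr ⟨1, rfl⟩
  · exact Or.inr ⟨2, rfl⟩
  · exact Or.inr ⟨3, rfl⟩
  · exact Or.inr ⟨4, rfl⟩
  · exact Or.inl rfl

theorem sq4 : ∀ s < 4, [s, s] ∈ Pres4.baseL := by decide

theorem sq5 : ∀ s < 5, [s, s] ∈ Pres5.baseL := by decide

/-- the relators on the first four letters are relators of the larger presentation -/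
theorem base4_sub : ∀ b ∈ Pres4.baseL, b ∈ Pres5.baseL := by decide

end Cfsg.Agent.Lib.Helper12.McLM.Certs
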