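import Cfsg.Agent.Lib.Helper12.McLM.Upper
import Cfsg.Agent.Lib.Helper12.M23Ext.TabPerm
import Cfsg.Prelude.Def_KGroupFacts

/-!
The group presented on the five involutions is a stem extension of the group of McLaughlin with kernel of order
three (helper12).
-/

set_option autoImplicit false
set_option maxRecDepth 100000

namespace Cfsg.Agent.Lib.Helper12.McLM.Exist

open Cfsg.Agent.Lib.Helper12.TC Cfsg.Agent.Lib.Helper12.TC.Fn Cfsg.Agent.Lib.Helper12.TCG
  Cfsg.Agent.Lib.Helper12.McLM Cfsg.Agent.Lib.helper14.MP Cfsg.Agent.Lib.helper23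
  Cfsg.Agent.Lib.Helper12.M23Ext

/-- the word of the central element -/
def zw : List ℕ := [1, 4, 0, 1, 4, 0, 1, 4, 0, 1, 4, 0, 1, 4, 0]

/-- the central element -/
noncomputable def z : Pres5.Grp := wprod Pres5.v zw

instance finite5 : Finite Pres5.Grp := Order.finite5

theorem v_sq (s : ℕ) (hs : s < 5) : Pres5.v s * Pres5.v s = 1 := by
  have h := Pres5.hbase [s, s] (Certs.sq5 s hs)
  rwa [wprod_cons, wprod_cons, wprod_nil, mul_one] at h

theorem v_inv (s : ℕ) (hs : s < 5) : (Pres5.v s)⁻¹ = Pres5.v s :=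
  inv_eq_of_mul_eq_one_left (v_sq s hs)

theorem zw_chk : pgAll 275 (fun p => Nat.beq (pgEvalW Model.xs zw p) p) = true := by decide +kernel

theorem phi_z : Model.phi z = 1 := by
  rw [z, Model.phi_wprod zw (by decide)]
  apply Subtype.ext
  rw [Model.wprod_xM]
  exact pgWordPerm_eq_one Model.xs_ok zw_chk

theorem rho_word (l : List ℕ) (hl : ∀ s ∈ l, s < 5) (i : Fin McLCx66825.cN) :
    ((McLCx66825.rho (wprod Pres5.v l) i : Fin McLCx66825.cN) : ℕ) = applyW McLCx66825.TT l i.val :=
  TabPerm.hom_word Pres5.v McLCx66825.rho McLCx66825.rho_gen l hl i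

theorem ne_of_apply {l₁ l₂ : List ℕ} (h₁ : ∀ s ∈ l₁, s < 5) (h₂ : ∀ s ∈ l₂, s < 5)
    (h : Nat.beq (applyW McLCx66825.TT l₁ 0) (applyW McLCx66825.TT l₂ 0) = false) :
    wprod Pres5.v l₁ ≠ wprod Pres5.v l₂ := by
  intro heq
  have e1 := rho_word l₁ h₁ ⟨0, McLCx66825.hN0⟩
  have e2 := rho_word l₂ h₂ ⟨0, McLCx66825.hN0⟩
  rw [heq, e2] at e1
  have h3 : Nat.beq (applyW McLCx66825.TT l₁ 0) (applyW McLCx66825.TT l₂ 0) = true := by
    rw [Nat.beq_eq]
    exact e1.symm
  rw [h] at h3
  exact Bool.false_ne_true h3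

theorem z_ne_one : z ≠ 1 := by
  have h := ne_of_apply (l₁ := zw) (l₂ := []) (by decide) (by decide) (by decide +kernel)
  rwa [wprod_nil] at h

theorem zz_ne_one : z * z ≠ 1 := by
  have h := ne_of_apply (l₁ := zw ++ zw) (l₂ := []) (by decide) (by decide) (by decide +kernel)
  rwa [wprod_nil, wprod_append] at h

theorem conj_ne (s : ℕ) (hs : s < 5) : Pres5.v s * z * (Pres5.v s)⁻¹ ≠ z * z := by
  have key : wprod Pres5.v (s :: (zw ++ [s])) ≠ wprod Pres5.v (zw ++ zw) := by
    interval_cases s <;> exact ne_of_apply (by decide) (by decide) (by decide +kernel)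
  rw [wprod_cons, wprod_append, wprod_append, wprod_cons, wprod_nil, mul_one] at key
  rw [v_inv s hs, mul_assoc]
  exact key

theorem card_ker : Nat.card Model.phi.ker = 3 := by
  have hle : Nat.card Model.phi.ker ≤ 3 := by
    have h1 := Order.finite_card_le.2
    rw [Upper.card_eq_mul Model.phi Model.phi_surjective] at h1
    omega
  set zK : Model.phi.ker := ⟨z, phi_z⟩ with hzK
  have h1 : zK ≠ 1 := fun h => z_ne_one (congrArg Subtype.val h)
  have h2 : zK * zK ≠ 1 := fun h => zz_ne_one (congrArg Subtype.val h)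
  have hd : orderOf zK ∣ Nat.card Model.phi.ker := orderOf_dvd_natCard zK
  have hpos : 0 < Nat.card Model.phi.ker := Nat.card_pos
  have ho1 : orderOf zK ≠ 1 := by rwa [Ne, orderOf_eq_one_iff]
  have ho2 : orderOf zK ≠ 2 := by
    intro h
    apply h2
    rw [← pow_two, ← h]
    exact pow_orderOf_eq_one zK
  have ho0 : 0 < orderOf zK := orderOf_pos zK
  have hle2 := Nat.le_of_dvd hpos hd
  omega

theorem z_pow_three : z ^ 3 = 1 := by
  have h : (⟨z, phi_z⟩ : Model.phi.ker) ^ Nat.card Model.phi.ker = 1 := pow_card_eq_one'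
  rw [card_ker] at h
  exact congrArg Subtype.val h

theorem ker_cases (x : Pres5.Grp) (hx : x ∈ Model.phi.ker) : x = 1 ∨ x = z ∨ x = z * z := by
  have : Fact (Nat.Prime 3) := ⟨Nat.prime_three⟩
  have hmem : (⟨x, hx⟩ : Model.phi.ker) ∈ Subgroup.zpowers (⟨z, phi_z⟩ : Model.phi.ker) :=
    mem_zpowers_of_prime_card card_ker (fun h => z_ne_one (congrArg Subtype.val h))
  obtain ⟨j, hj⟩ := Subgroup.mem_zpowers_iff.mp hmem
  have hj' : z ^ j = x := by
    have := congrArg Subtype.val hj
    rwa [Subgroup.coe_zpow] at this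
  have h3 : z ^ (3 : ℤ) = 1 := by exact_mod_cast z_pow_three
  have hred : z ^ j = z ^ (j % 3) := by
    conv_lhs => rw [← Int.emod_add_mul_ediv j 3]
    rw [zpow_add, zpow_mul, h3, one_zpow, mul_one]
  have hr : j % 3 = 0 ∨ j % 3 = 1 ∨ j % 3 = 2 := by omega
  rw [hred] at hj'
  rcases hr with h | h | h <;> rw [h] at hj'
  · left; rw [← hj', zpow_zero]
  · right; left; rw [← hj', zpow_one]
  · right; right; rw [← hj']; exact zpow_two z

theorem v_comm_z (s : ℕ) (hs : s < 5) : Pres5.v s * z = z * Pres5.v s := by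
  have hx : Pres5.v s * z * (Pres5.v s)⁻¹ ∈ Model.phi.ker :=
    (MonoidHom.normal_ker Model.phi).conj_mem z phi_z (Pres5.v s)
  rcases ker_cases _ hx with h | h | h
  · exact absurd (conj_eq_one_iff.mp h) z_ne_one
  · exact mul_inv_eq_iff_eq_mul.mp h
  · exact absurd h (conj_ne s hs)

theorem z_central : z ∈ Subgroup.center Pres5.Grp := by
  have hle : Subgroup.closure {y | ∃ x < 5, y = Pres5.v x} ≤ Subgroup.centralizer {z} := by
    rw [Subgroup.closure_le]
    rintro y ⟨s, hs, rfl⟩
    rw [SetLike.mem_coe, Subgroup.mem_centralizer_iff]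
    intro h hh
    rw [Set.mem_singleton_iff] at hh
    rw [hh]
    exact (v_comm_z s hs).symm
  rw [Subgroup.mem_center_iff]
  intro γ
  have := hle (Pres5.hgen γ)
  rw [Subgroup.mem_centralizer_iff] at this
  exact (this z rfl).symm

theorem sq_mem_commutator (γ : Pres5.Grp) : γ * γ ∈ commutator Pres5.Grp := by
  have h : ∀ γ : Pres5.Grp, (Abelianization.of γ) ^ 2 = 1 := by
    intro γ
    have hγ := Pres5.hgen γ
    induction hγ using Subgroup.closure_induction with
    | mem y hy =>
      obtain ⟨s, hs, rfl⟩ := hy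
      rw [← map_pow, pow_two, v_sq s hs, map_one]
    | one => rw [map_one, one_pow]
    | mul a b _ _ iha ihb => rw [map_mul, mul_pow, iha, ihb, one_mul]
    | inv a _ iha => rw [map_inv, inv_pow, iha, inv_one]
  have h2 := h γ
  rw [← map_pow, pow_two] at h2
  rw [← Abelianization.ker_of, MonoidHom.mem_ker]
  exact h2

theorem z_mem_commutator : z ∈ commutator Pres5.Grp := by
  have h : z = (z * z) * (z * z) := by
    have h3 := z_pow_three
    have h4 : (z * z) * (z * z) = z ^ 3 * z := by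
      simp only [pow_succ, pow_zero, one_mul, mul_assoc]
    rw [h4, h3, one_mul]
  rw [h]
  exact sq_mem_commutator (z * z)

theorem phi_stem : Cfsg.IsStemExtension Model.phi := by
  refine ⟨Model.phi_surjective, ?_, ?_⟩
  · intro x hx
    rcases ker_cases x hx with rfl | rfl | rfl
    · exact one_mem _
    · exact z_central
    · exact mul_mem z_central z_central
  · intro x hx
    rcases ker_cases x hx with rfl | rfl | rfl
    · exact one_mem _
    · exact z_mem_commutator
    · exact mul_mem z_mem_commutator z_mem_commutator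

/-- the group of McLaughlin on 275 points has a finite stem extension with kernel of order three -/
theorem exists_stem_three_M275 : ∃ (Γ : Type) (_ : Group Γ) (_ : Finite Γ) (σ : Γ →* ↥M275),
    Cfsg.IsStemExtension σ ∧ Nat.card σ.ker = 3 :=
  ⟨Pres5.Grp, inferInstance, finite5, Model.phi, phi_stem, card_ker⟩

/-- the group of McLaughlin has a finite stem extension with kernel of order three -/
theorem exists_stem_three_McL : ∃ (Γ : Type) (_ : Group Γ) (_ : Finite Γ)
    (σ : Γ →* ↥Cfsg.Spor.McL),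
    Cfsg.IsStemExtension σ ∧ Nonempty (σ.ker ≃* Multiplicative (ZMod 3)) := by
  obtain ⟨e⟩ := M275_equiv
  obtain ⟨Γ, iG, iF, σ, ⟨hsurj, hcen, hder⟩, hcard⟩ := exists_stem_three_M275
  set σ' : Γ →* ↥Cfsg.Spor.McL := e.symm.toMonoidHom.comp σ with hσ'
  have hker : σ'.ker = σ.ker := by
    ext x
    rw [MonoidHom.mem_ker, MonoidHom.mem_ker, hσ', MonoidHom.comp_apply]
    exact MulEquiv.map_eq_one_iff e.symm
  refine ⟨Γ, iG, iF, σ', ⟨e.symm.surjective.comp hsurj, ?_, ?_⟩, ?_⟩
  · rw [hker]; exact hcen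
  · rw [hker]; exact hder
  · have : Fact (Nat.Prime 3) := ⟨Nat.prime_three⟩
    have hc : Nat.card σ'.ker = 3 := by rw [hker]; exact hcard
    have hcyc : IsCyclic σ'.ker := isCyclic_of_prime_card hc
    have e2 := zmodCyclicMulEquiv hcyc
    rw [hc] at e2
    exact ⟨e2.symm⟩

end Cfsg.Agent.Lib.Helper12.McLM.Exist
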