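import Cfsg.Agent.Lib.helper14.MPe
import Cfsg.Agent.Lib.helper23.PgD
import Cfsg.Agent.Lib.Helper12.McLM.Pres5

/-!
Five involutions of the group of McLaughlin on 275 points which satisfy the relators of the presentation on five
letters and generate the group: the homomorphism of the presented group onto the group (helper12).
-/

set_option autoImplicit false
set_option maxRecDepth 1000000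

namespace Cfsg.Agent.Lib.Helper12.McLM.Model

open Cfsg.Agent.Lib.helper23 Cfsg.Agent.Lib.helper14.MP Cfsg.Agent.Lib.Helper12.TC
  Cfsg.Agent.Lib.Helper12.TCG Cfsg.Agent.Lib.Helper12.McLM

/-- an involution from its table, 9 bits per entry -/
def xP (T : ℕ) : PFun := ⟨fun i => mplk T i, fun i => mplk T i⟩

/-- the table of an involution -/
def xT0 : ℕ := 3610150528170312148557552630344759702989128765262263993096799390022821349990902451121294645017590006780653734304800720483954907734564844430795657879087194472457922134417868271310971039807346668648464278372751503649668330472745389160530330010265955743379930156396936001912174961514145683094957307530166086497125563057761272841344673240019377566591325612852319358613093359417003554231394375714243944291275001909830214295094602883039814637853632732969147572212441172671295101148944929968697432386235470083201362783565326466635360714963505838614157410058211654212833214204378595017521822682519354384295479812517570323414339814166829794550498949705084524323992359554750786895695412566623786324199260204579595375414361838892193851120783332376957158051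

/-- the involution as a word in the two generators and their inverses -/
def xw0 : List ℕ := [0, 0, 1, 2, 2, 3, 2, 2, 3, 2, 2, 3, 2, 2, 3, 2, 2, 3, 2, 2, 3, 2, 2, 3, 3, 2, 2]

/-- the table of an involution -/
def xT1 : ℕ := 5325541575320819543310116254065779901338084281093593371510329914766423137290822896574141646561917816202790482648753276064782150274228398478186278693152527176756245376495188854177791937803194538497036925987900841297970505976762685572723265140635082862067913885043647677259837276033005795870926894677837031305088663033278015809959028035283730182500378184021501943511972458393679203646842515748283631406082529923432912662480569535309887610672596900220719590424942025661950533504181635412130041674793058117133921885465508517595349775677763913806090812266589195103767515592282488512942688099785861316373577954987932642358632253277823420011075329387210976671922495056573203668541121164962760884385879913367275453467753928898237483737602808189297474770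

/-- the involution as a word in the two generators and their inverses -/
def xw1 : List ℕ := [2, 1, 0, 3, 2, 3, 3, 2, 2, 2, 3, 2, 2, 3, 2, 2, 3, 2, 2, 3, 2, 2, 3, 2, 2, 3, 2, 2, 3, 0, 1, 1, 0, 1, 2, 3, 0]

/-- the table of an involution -/
def xT2 : ℕ := 579950983551367979445498897627200339238700173668595057043165824462737289550739720831160426787162531964467715923843215364876124450443881358480917753304518373454108358866624315425817279458617902019634158905821336061117093290376548254364977372504010852914735696290021660905744189157843717858552913261102325818872299476401844171185786253682663286575807662273964267255199572456095539488228122205542038169358883886765721163984182792081170039824635548856501736079891929527182786191541216681272302256089174229807556472049291204035655945794553842573046753835070298721566303716455772454893336447225855722342090357521557930003695664560994439219352261696983926624165691710812303935944993619964808301590068535886273988545493851169091955630595806028047319552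

/-- the involution as a word in the two generators and their inverses -/
def xw2 : List ℕ := [1, 1, 2, 1, 1, 0, 1, 0, 3, 2, 2, 3, 2, 2, 3, 2, 2, 3, 2, 2, 3, 2, 2, 3, 2, 2, 3, 2, 2, 3, 1, 2, 3, 2, 3, 3, 0, 3, 3]

/-- the table of an involution -/
def xT3 : ℕ := 948063030058511034255697839532906850971516322217233063347680845083257691097986094460430035470740579339818947848990775543200415161205271938863703938076387465663947448210431797557422301064378758166413203217229131442634415051035823739581318174117236965425884276414529894623982071630961963737538357962636196289947409663396830724358819616308504194640061534141723913395962171595366237692887613578497801538996308134571129848941291549399949514983839081373445589463909759715164316920016115634061597873290998197789789800404047886107531397767042462034515746514169698797948693720383563651365048561341533062135965529506238183839681023840655178992308779446731674910997433413366955191646791555663011039203829477887004095447517800784107759152033383798455275520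

/-- the involution as a word in the two generators and their inverses -/
def xw3 : List ℕ := [0, 1, 2, 3, 0, 3, 2, 1, 2, 2, 3, 2, 2, 3, 2, 2, 3, 2, 2, 3, 2, 2, 3, 2, 2, 3, 2, 2, 3, 3, 0, 1, 2, 1, 0, 3, 2]

/-- the table of an involution -/
def xT4 : ℕ := 5170230330820092291338806475729783033698784791364435904160351838557597675266386382916925858962865678753237613592261555486481110986785914032882775636661260992660463386110753881550759202728574245986325754457321895640073427551501842892414756917310409378673175352350534730065779001734750831992730608252544254081854672929417510663867359032084427011875516123254481428840103256152841193301310884514038797487479804854505949497282962482873440776022619196796652190745901953420548249125432198456549542095174366692497019161819596318980111199797202329410158679489076371968258446790100932763202538646384262866900440270873980642092287331371329268850830501660201111467655642645129835151268704384913774985410010345068197350681815386395793368599016574908446111954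

/-- the involution as a word in the two generators and their inverses -/
def xw4 : List ℕ := [2, 2, 1, 2, 2, 3, 3, 3, 2, 2, 2, 2, 3, 2, 2, 3, 2, 2, 3, 2, 2, 3, 2, 2, 3, 2, 2, 3, 2, 2, 3, 0, 0, 1, 1, 1, 0, 0, 3, 0, 0]

/-- the five involutions -/
def xs : List PFun := [xP xT0, xP xT1, xP xT2, xP xT3, xP xT4]

/-- the first generator as a word in the involutions -/
def wa : List ℕ := [1, 4, 0, 4, 3, 1, 3, 2, 3, 1, 3, 0, 3, 2, 0, 1, 0, 1, 3, 0, 3, 0, 1, 4, 0, 4, 3, 1, 3, 0, 3, 0, 3, 2, 0, 1, 0, 1, 3, 0, 3, 0, 1, 4, 0, 4, 3, 1, 3, 0, 1, 4, 0, 4, 3, 1, 3, 0, 1, 4, 0, 4, 3, 1, 3, 0, 3, 1, 2, 3, 1, 0, 3, 0, 3, 0, 3, 2, 0, 1, 0, 1, 3, 0, 3, 0, 1, 4, 0, 4, 3, 1, 3, 0, 3, 0, 1, 4, 0, 4, 3, 1, 3, 0, 1, 4, 0, 4, 3, 1, 3, 0, 1, 4, 0, 4, 3, 1, 3, 0, 3, 2, 0,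 1, 0, 1, 3, 0, 3, 0, 3, 2, 0, 1, 0, 1, 3, 0, 3, 0, 3, 2, 0, 1, 0, 1, 3, 0, 3, 0, 1, 4, 0, 4, 3, 1, 3, 0, 3, 1, 0, 4, 0, 4, 3, 1, 3, 0, 1, 4, 0, 4, 3, 1, 3, 0, 1, 4, 0, 4, 3, 1, 3, 0, 3, 1, 2, 3, 1, 0, 3, 0, 3, 0, 3, 2, 0, 1, 0, 1, 3, 0, 3, 0, 1, 4, 0, 4, 3, 1, 3, 0, 3, 0, 1, 4, 0, 4, 3, 1, 3, 0, 1, 4, 0, 4, 3, 1, 3, 0, 1, 4, 0, 4, 3, 1, 3, 0, 3, 2, 0, 1, 0, 1, 3, 0, 3, 0, 3, 2, 0, 1, 0, 1, 3, 0, 3, 0, 3, 2, 0, 1, 0, 1, 3, 0, 3, 0, 1, 4, 0, 4, 3, 1, 3, 0, 3, 1, 2, 3, 1, 0, 3, 0, 3, 0, 3, 2, 0, 1, 0, 1, 3, 0, 3, 0, 1, 4, 0, 4, 3, 1, 3, 0, 3, 0, 1, 4, 0, 4, 3, 1, 3, 0, 1, 4, 0, 4, 3, 1, 3, 0, 1, 4, 0, 4, 3, 1, 3, 0, 3, 2, 0, 1, 0, 1, 3, 0, 3, 0, 3, 2, 0, 1, 0, 1, 3, 0, 3, 0, 3, 2, 0, 1, 0, 1, 3, 0, 3, 0, 1, 4, 0, 4, 3, 1, 3, 0, 3, 0, 3, 2, 3, 2, 3,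 0, 3, 2, 3, 1, 3, 0, 3, 2, 0, 1, 0, 1, 3, 0, 3, 0, 1, 4, 0, 4, 3, 1, 3, 0, 3, 0, 3, 2, 0, 1, 0, 1, 3, 0, 3, 0, 1, 4, 0, 4, 3, 1, 3, 0, 1, 4, 0, 4, 3, 1, 3, 0, 1, 4, 0, 4, 3, 1, 3, 0, 3, 1, 2, 3, 1, 0, 3, 0, 3, 0, 3, 2, 0, 1, 0, 1, 3, 0, 3, 0, 1, 4, 0, 4, 3, 1, 3, 0, 3, 0, 1, 4, 0, 4, 3, 1, 3, 0, 1, 4, 0, 4, 3, 1, 3, 0, 1, 4, 0, 4, 3, 1, 3, 0, 3, 2, 0, 1, 0, 1, 3, 0, 3, 0, 3, 2, 0, 1, 0, 1, 3, 0, 3, 0, 3, 2, 0, 1, 0, 1, 3, 0, 3, 0, 1, 4, 0, 4, 3, 1, 3, 0, 3, 1, 0, 4, 0, 4, 3, 1, 3, 0, 1, 4, 0, 4, 3, 1, 3, 0, 1, 4, 0, 4, 3, 1, 3, 0, 3, 1, 2, 3, 1, 0, 3, 0, 3, 0, 3, 2, 0, 1, 0, 1, 3, 0, 3, 0, 1, 4, 0, 4, 3, 1, 3, 0, 3, 0, 1, 4, 0, 4, 3, 1, 3, 0, 1, 4, 0, 4, 3, 1, 3, 0, 1, 4, 0, 4, 3, 1, 3, 0, 3, 2, 0, 1, 0, 1, 3, 0, 3, 0, 3, 2, 0, 1, 0, 1, 3, 0, 3,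 0, 3, 2, 0, 1, 0, 1, 3, 0, 3, 0, 1, 4, 0, 4, 3, 1, 3, 0, 3, 1, 2, 3, 1, 0, 3, 0, 3, 0, 3, 2, 0, 1, 0, 1, 3, 0, 3, 0, 1, 4, 0, 4, 3, 1, 3, 0, 3, 0, 1, 4, 0, 4, 3, 1, 3, 0, 1, 4, 0, 4, 3, 1, 3, 0, 1, 4, 0, 4, 3, 1, 3, 0, 3, 2, 0, 1, 0, 1, 3, 0, 3, 0, 3, 2, 0, 1, 0, 1, 3, 0, 3, 0, 3, 2, 0, 1, 0, 1, 3, 0, 3, 0, 1, 4, 0, 4, 3, 1, 3, 0, 1, 4, 0, 4, 3, 1, 3, 0, 1, 4, 0, 4, 3, 1, 3, 0, 1, 4, 0, 4, 3, 1, 3, 0, 3, 1, 0, 4, 0, 4, 3, 1, 3, 0, 1, 4, 0, 4, 3, 1, 3, 0, 1, 4, 0, 4, 3, 1, 3, 4, 3, 1, 3, 0, 3, 2, 0, 1, 0, 1, 3, 0, 3, 0, 3, 2, 0, 1, 0, 1, 3, 0, 3, 0, 3, 1, 0, 4, 0, 4, 3, 1, 3, 0, 1, 4, 0, 4, 3, 1, 3, 0, 1, 4, 0, 4, 3, 1, 3, 2, 3, 1, 3, 0, 3, 2, 0, 1, 0, 1, 3, 0, 3, 0, 1, 4, 0, 4, 3, 1, 3, 0, 3, 0, 3, 2, 0, 1, 0, 1, 3, 0, 3, 0, 1, 4, 0, 4, 3, 1, 3,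 0, 1, 4, 0, 4, 3, 1, 3, 0, 1, 4, 0, 4, 3, 1, 3, 0, 3, 1, 2, 3, 1, 0, 3, 0, 3, 0, 3, 2, 0, 1, 0, 1, 3, 0, 3, 0, 1, 4, 0, 4, 3, 1, 3, 0, 3, 0, 1, 4, 0, 4, 3, 1, 3, 0, 1, 4, 0, 4, 3, 1, 3, 0, 1, 4, 0, 4, 3, 1, 3, 0, 3, 2, 0, 1, 0, 1, 3, 0, 3, 0, 3, 2, 0, 1, 0, 1, 3, 0, 3, 0, 3, 2, 0, 1, 0, 1, 3, 0, 3, 0, 1, 4, 0, 4, 3, 1, 3, 0, 3, 1, 0, 4, 0, 4, 3, 1, 3, 0, 1, 4, 0, 4, 3, 1, 3, 0, 1, 4, 0, 4, 3, 1, 3, 0, 3, 1, 2, 3, 1, 0, 3, 0, 3, 0, 3, 2, 0, 1, 0, 1, 3, 0, 3, 0, 1, 4, 0, 4, 3, 1, 3, 0, 3, 0, 1, 4, 0, 4, 3, 1, 3, 0, 1, 4, 0, 4, 3, 1, 3, 0, 1, 4, 0, 4, 3, 1, 3, 0, 3, 2, 0, 1, 0, 1, 3, 0, 3, 0, 3, 2, 0, 1, 0, 1, 3, 0, 3, 0, 3, 2, 0, 1, 0, 1, 3, 0, 3, 0, 1, 4, 0, 4, 3, 1, 3, 0, 3, 1, 2, 3, 1, 0, 3, 0, 3, 0, 3, 2, 0, 1, 0, 1, 3, 0, 3, 0, 1, 4, 0, 4, 3,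 1, 3, 0, 3, 0, 1, 4, 0, 4, 3, 1, 3, 0, 1, 4, 0, 4, 3, 1, 3, 0, 1, 4, 0, 4, 3, 1, 3, 0, 3, 2, 0, 1, 0, 1, 3, 0, 3, 0, 3, 2, 0, 1, 0, 1, 3, 0, 3, 0, 3, 2, 0, 1, 0, 1, 3, 0, 3, 0, 1, 4, 0, 4, 3, 1, 3, 0, 3, 1, 2, 3, 1, 0, 3, 0, 3, 0, 3, 2, 0, 1, 0, 1, 3, 0, 3, 0, 1, 4, 0, 4, 3, 1, 3, 0, 3, 0, 1, 4, 0, 4, 3, 1, 3, 0, 1, 4, 0, 4, 3, 1, 3, 0, 1, 4, 0, 4, 3, 1, 3, 0, 3, 2, 0, 1, 0, 1, 3, 0, 3, 0, 3, 2, 0, 1, 0, 1, 3, 0, 3, 0, 3, 2, 0, 1, 0, 1, 3, 0, 3, 0, 1, 4, 0, 4, 3, 1, 3, 0, 3, 1, 0, 4, 0, 4, 3, 1, 3, 0, 1, 4, 0, 4, 3, 1, 3, 0, 1, 4, 0, 4, 3, 1, 3, 0, 3, 2, 0, 1, 0, 1, 3, 0, 3, 0, 3, 2, 0, 1, 0, 1, 3, 0, 3, 2, 3, 2, 3, 0, 3, 2, 3, 1, 3, 0, 3, 2, 0, 1, 0, 1, 3, 0, 3, 0, 1, 4, 0, 4, 3, 1, 3, 0, 3, 0, 3, 2, 0, 1, 0, 1, 3, 0, 3, 0, 1, 4, 0, 4, 3, 1, 3,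 0, 1, 4, 0, 4, 3, 1, 3, 0, 1, 4, 0, 4, 3, 1, 3, 0, 3, 1, 2, 3, 1, 0, 3, 0, 3, 0, 3, 2, 0, 1, 0, 1, 3, 0, 3, 0, 1, 4, 0, 4, 3, 1, 3, 0, 3, 0, 1, 4, 0, 4, 3, 1, 3, 0, 1, 4, 0, 4, 3, 1, 3, 0, 1, 4, 0, 4, 3, 1, 3, 0, 3, 2, 0, 1, 0, 1, 3, 0, 3, 0, 3, 2, 0, 1, 0, 1, 3, 0, 3, 0, 3, 2, 0, 1, 0, 1, 3, 0, 3, 0, 1, 4, 0, 4, 3, 1, 3, 0, 3, 1, 0, 4, 0, 4, 3, 1, 3, 0, 1, 4, 0, 4, 3, 1, 3, 0, 1, 4, 0, 4, 3, 1, 3, 0, 3, 1, 2, 3, 1, 0, 3, 0, 3, 0, 3, 2, 0, 1, 0, 1, 3, 0, 3, 0, 1, 4, 0, 4, 3, 1, 3, 0, 3, 0, 1, 4, 0, 4, 3, 1, 3, 0, 1, 4, 0, 4, 3, 1, 3, 0, 1, 4, 0, 4, 3, 1, 3, 0, 3, 2, 0, 1, 0, 1, 3, 0, 3, 0, 3, 2, 0, 1, 0, 1, 3, 0, 3, 0, 3, 2, 0, 1, 0, 1, 3, 0, 3, 0, 1, 4, 0, 4, 3, 1, 3, 0, 3, 1, 2, 3, 1, 0, 3, 0, 3, 0, 3, 2, 0, 1, 0, 1, 3, 0, 3, 0, 1, 4, 0, 4, 3,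 1, 3, 0, 3, 0, 1, 4, 0, 4, 3, 1, 3, 0, 1, 4, 0, 4, 3, 1, 3, 0, 1, 4, 0, 4, 3, 1, 3, 0, 3, 2, 0, 1, 0, 1, 3, 0, 3, 0, 3, 2, 0, 1, 0, 1, 3, 0, 3, 0, 3, 2, 0, 1, 0, 1, 3, 0, 3, 0, 1, 4, 0, 4, 3, 1, 3, 0, 1, 4, 0, 4, 3, 1, 3, 0, 1, 4, 0, 4, 3, 1, 3, 0, 1, 4, 0, 4, 3, 1, 3, 0, 3, 1, 0, 4, 0, 4, 3, 1, 3, 0, 1, 4, 0, 4, 3, 1, 3, 0, 1, 4, 0, 4, 3, 1, 3, 4, 3, 1, 3, 0, 3, 2, 0, 1, 0, 1, 3, 0, 3, 0, 3, 2, 0, 1, 0, 1, 3, 0, 3, 0, 3, 1, 0, 4, 0, 4, 3, 1, 3, 0, 1, 4, 0, 4, 3, 1, 3, 0, 1, 4, 0, 4, 3, 1, 3, 2, 3, 1, 3, 0, 3, 2, 0, 1, 0, 1, 3, 0, 3, 0, 1, 4, 0, 4, 3, 1, 3, 0, 3, 0, 3, 2, 0, 1, 0, 1, 3, 0, 3, 0, 1, 4, 0, 4, 3, 1, 3, 0, 1, 4, 0, 4, 3, 1, 3, 0, 1, 4, 0, 4, 3, 1, 3, 0, 3, 1, 2, 3, 1, 0, 3, 0, 3, 0, 3, 2, 0, 1, 0, 1, 3, 0, 3, 0, 1, 4, 0, 4, 3, 1, 3,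 0, 3, 0, 1, 4, 0, 4, 3, 1, 3, 0, 1, 4, 0, 4, 3, 1, 3, 0, 1, 4, 0, 4, 3, 1, 3, 0, 3, 2, 0, 1, 0, 1, 3, 0, 3, 0, 3, 2, 0, 1, 0, 1, 3, 0, 3, 0, 3, 2, 0, 1, 0, 1, 3, 0, 3, 0, 1, 4, 0, 4, 3, 1, 3, 0, 3, 1, 0, 4, 0, 4, 3, 1, 3, 0, 1, 4, 0, 4, 3, 1, 3, 0, 1, 4, 0, 4, 3, 1, 3, 0, 3, 1, 2, 3, 1, 0, 3, 0, 3, 0, 3, 2, 0, 1, 0, 1, 3, 0, 3, 0, 1, 4, 0, 4, 3, 1, 3, 0, 3, 0, 1, 4, 0, 4, 3, 1, 3, 0, 1, 4, 0, 4, 3, 1, 3, 0, 1, 4, 0, 4, 3, 1, 3, 0, 3, 2, 0, 1, 0, 1, 3, 0, 3, 0, 3, 2, 0, 1, 0, 1, 3, 0, 3, 0, 3, 2, 0, 1, 0, 1, 3, 0, 3, 0, 1, 4, 0, 4, 3, 1, 3, 0, 3, 1, 2, 3, 1, 0, 3, 0, 3, 0, 3, 2, 0, 1, 0, 1, 3, 0, 3, 0, 1, 4, 0, 4, 3, 1, 3, 0, 3, 0, 1, 4, 0, 4, 3, 1, 3, 0, 1, 4, 0, 4, 3, 1, 3, 0, 1, 4, 0, 4, 3, 1, 3, 0, 3, 2, 0, 1, 0, 1, 3, 0, 3, 0, 3, 2, 0, 1, 0,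 1, 3, 0, 3, 0, 3, 2, 0, 1, 0, 1, 3, 0, 3, 0, 1, 4, 0, 4, 3, 1, 3, 0, 3, 1, 2, 3, 1, 0, 3, 0, 3, 0, 3, 2, 0, 1, 0, 1, 3, 0, 3, 0, 1, 4, 0, 4, 3, 1, 3, 0, 3, 0, 1, 4, 0, 4, 3, 1, 3, 0, 1, 4, 0, 4, 3, 1, 3, 0, 1, 4, 0, 4, 3, 1, 3, 0, 3, 2, 0, 1, 0, 1, 3, 0, 3, 0, 3, 2, 0, 1, 0, 1, 3, 0, 3, 0, 3, 2, 0, 1, 0, 1, 3, 0, 3, 0, 1, 4, 0, 4, 3, 1, 3, 4, 3, 1, 3, 0, 3, 2, 0, 1, 0, 1, 3, 0, 3, 0, 3, 2, 0, 1, 0, 1, 3, 0, 3, 0, 3, 1, 0, 4, 0, 4, 3, 1, 3, 0, 1, 4, 0, 4, 3, 1, 3, 0, 1, 4, 0, 4, 3, 1, 3, 4, 3, 1, 3, 0, 3, 2, 0, 1, 0, 1, 3, 0, 3, 0, 3, 2, 0, 1, 0, 1, 3, 0, 3, 0, 3, 1, 0, 4, 0, 4, 3, 1, 3, 0, 1, 4, 0, 4, 3, 1, 3, 0, 1, 4, 0, 4, 3, 1, 3, 0, 3, 1, 2, 3, 1, 0, 3, 0, 3, 0, 3, 2, 0, 1, 0, 1, 3, 0, 3, 0, 1, 4, 0, 4, 3, 1, 3, 0, 3, 0, 1, 4, 0, 4, 3, 1, 3,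 0, 1, 4, 0, 4, 3, 1, 3, 0, 1, 4, 0, 4, 3, 1, 3, 0, 3, 2, 0, 1, 0, 1, 3, 0, 3, 0, 3, 2, 0, 1, 0, 1, 3, 0, 3, 0, 3, 2, 0, 1, 0, 1, 3, 0, 3, 0, 1, 4, 0, 4, 3, 1, 3, 2, 3, 1, 3, 0, 3, 2, 0, 1, 0, 1, 3, 0, 3, 0, 1, 4, 0, 4, 3, 1, 3, 0, 3, 0, 3, 2, 0, 1, 0, 1, 3, 0, 3, 0, 1, 4, 0, 4, 3, 1, 3, 0, 1, 4, 0, 4, 3, 1, 3, 0, 1, 4, 0, 4, 3, 1, 3, 0, 3, 1, 2, 3, 1, 0, 3, 0, 3, 0, 3, 2, 0, 1, 0, 1, 3, 0, 3, 0, 1, 4, 0, 4, 3, 1, 3, 0, 3, 0, 1, 4, 0, 4, 3, 1, 3, 0, 1, 4, 0, 4, 3, 1, 3, 0, 1, 4, 0, 4, 3, 1, 3, 0, 3, 2, 0, 1, 0, 1, 3, 0, 3, 0, 3, 2, 0, 1, 0, 1, 3, 0, 3, 0, 3, 2, 0, 1, 0, 1, 3, 0, 3, 0, 1, 4, 0, 4, 3, 1, 3, 0, 3, 1, 0, 4, 0, 4, 3, 1, 3, 0, 1, 4, 0, 4, 3, 1, 3, 0, 1, 4, 0, 4, 3, 1, 3, 0, 3, 1, 2, 3, 1, 0, 3, 0, 3, 0, 3, 2, 0, 1, 0, 1, 3, 0, 3, 0, 1,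 4, 0, 4, 3, 1, 3, 0, 3, 0, 1, 4, 0, 4, 3, 1, 3, 0, 1, 4, 0, 4, 3, 1, 3, 0, 1, 4, 0, 4, 3, 1, 3, 0, 3, 2, 0, 1, 0, 1, 3, 0, 3, 0, 3, 2, 0, 1, 0, 1, 3, 0, 3, 0, 3, 2, 0, 1, 0, 1, 3, 0, 3, 0, 1, 4, 0, 4, 3, 1, 3, 0, 3, 1, 2, 3, 1, 0, 3, 0, 3, 0, 3, 2, 0, 1, 0, 1, 3, 0, 3, 0, 1, 4, 0, 4, 3, 1, 3, 0, 3, 0, 1, 4, 0, 4, 3, 1, 3, 0, 1, 4, 0, 4, 3, 1, 3, 0, 1, 4, 0, 4, 3, 1, 3, 0, 3, 2, 0, 1, 0, 1, 3, 0, 3, 0, 3, 2, 0, 1, 0, 1, 3, 0, 3, 0, 3, 2, 0, 1, 0, 1, 3, 0, 3, 0, 1, 4, 0, 4, 3, 1, 3, 4, 3, 1, 3, 0, 3, 2, 0, 1, 0, 1, 3, 0, 3, 0, 3, 2, 0, 1, 0, 1, 3, 0, 3, 0, 3, 1, 0, 4, 0, 4, 3, 1, 3, 0, 1, 4, 0, 4, 3, 1, 3, 0, 1, 4, 0, 4, 3, 1, 3, 4, 3, 1, 3, 0, 3, 2, 0, 1, 0, 1, 3, 0, 3, 0, 3, 2, 0, 1, 0, 1, 3, 0, 3, 0, 3, 1, 0, 4, 0, 4, 3, 1, 3, 0, 1, 4, 0, 4, 3,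 1, 3, 0, 1, 4, 0, 4, 3, 1, 3, 0]

/-- the second generator as a word in the involutions -/
def wg : List ℕ := [3, 1, 2, 3, 1, 0, 3, 0, 3, 0, 3, 2, 0, 1, 0, 1, 3, 0, 3, 0, 1, 4, 0, 4, 3, 1, 3, 0, 3, 0, 1, 4, 0, 4, 3, 1, 3, 0, 1, 4, 0, 4, 3, 1, 3, 0, 1, 4, 0, 4, 3, 1, 3, 0, 3, 2, 0, 1, 0, 1, 3, 0, 3, 0, 3, 2, 0, 1, 0, 1, 3, 0, 3, 0, 3, 2, 0, 1, 0, 1, 3, 0, 3, 0, 1, 4, 0, 4, 3, 1, 3, 0, 3, 1, 2, 3, 1, 0, 3, 0, 3, 0, 3, 2, 0, 1, 0, 1, 3, 0, 3, 0, 1, 4, 0, 4, 3, 1, 3, 0, 3, 0, 1, 4, 0, 4, 3, 1, 3, 0, 1, 4, 0, 4, 3, 1, 3, 0, 1, 4, 0, 4, 3, 1, 3, 0, 3, 2, 0, 1, 0, 1, 3, 0, 3, 0, 3, 2, 0, 1, 0, 1, 3, 0, 3, 0, 3, 2, 0, 1, 0, 1, 3, 0, 3, 0, 1, 4, 0, 4, 3, 1, 3, 0, 3, 0, 3, 0, 3, 1, 2, 3, 1, 0, 3, 0, 3, 0, 3, 2, 0, 1, 0, 1, 3, 0, 3, 0, 1, 4, 0, 4, 3, 1, 3,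 0, 3, 0, 1, 4, 0, 4, 3, 1, 3, 0, 1, 4, 0, 4, 3, 1, 3, 0, 1, 4, 0, 4, 3, 1, 3, 0, 3, 2, 0, 1, 0, 1, 3, 0, 3, 0, 3, 2, 0, 1, 0, 1, 3, 0, 3, 0, 3, 2, 0, 1, 0, 1, 3, 0, 3, 0, 1, 4, 0, 4, 3, 1, 3, 0, 3, 1, 2, 3, 1, 0, 3, 0, 3, 0, 3, 2, 0, 1, 0, 1, 3, 0, 3, 0, 1, 4, 0, 4, 3, 1, 3, 0, 3, 0, 1, 4, 0, 4, 3, 1, 3, 0, 1, 4, 0, 4, 3, 1, 3, 0, 1, 4, 0, 4, 3, 1, 3, 0, 3, 2, 0, 1, 0, 1, 3, 0, 3, 0, 3, 2, 0, 1, 0, 1, 3, 0, 3, 0, 3, 2, 0, 1, 0, 1, 3, 0, 3, 0, 1, 4, 0, 4, 3, 1, 3, 0, 3, 1, 2, 3, 1, 0, 3, 0, 3, 0, 3, 2, 0, 1, 0, 1, 3, 0, 3, 0, 1, 4, 0, 4, 3, 1, 3, 0, 3, 0, 1, 4, 0, 4, 3, 1, 3, 0, 1, 4, 0, 4, 3, 1, 3, 0, 1, 4, 0, 4, 3, 1, 3, 0, 3, 2, 0, 1, 0, 1, 3, 0, 3, 0, 3, 2, 0, 1, 0, 1, 3, 0, 3, 0, 3, 2, 0, 1, 0, 1, 3, 0, 3, 0, 1, 4, 0, 4, 3, 1, 3, 4, 3, 1, 3,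 0, 3, 2, 0, 1, 0, 1, 3, 0, 3, 0, 3, 2, 0, 1, 0, 1, 3, 0, 3, 0, 3, 1, 0, 4, 0, 4, 3, 1, 3, 0, 1, 4, 0, 4, 3, 1, 3, 0, 1, 4, 0, 4, 3, 1, 3, 0, 4, 0, 3, 1, 0, 4, 0, 4, 3, 1, 3, 0, 1, 4, 0, 4, 3, 1, 3, 0, 1, 4, 0, 4, 3, 1, 3, 0, 3, 0, 3, 2, 0, 1, 0, 1, 3, 0, 3, 0, 3, 2, 0, 1, 0, 1, 3, 0, 3, 4, 3, 1, 3, 0, 3, 2, 0, 1, 0, 1, 3, 0, 3, 0, 3, 2, 0, 1, 0, 1, 3, 0, 3, 0, 3, 1, 0, 4, 0, 4, 3, 1, 3, 0, 1, 4, 0, 4, 3, 1, 3, 0, 1, 4, 0, 4, 3, 1, 3, 4, 3, 1, 3, 0, 3, 2, 0, 1, 0, 1, 3, 0, 3, 0, 3, 2, 0, 1, 0, 1, 3, 0, 3, 0, 3, 1, 0, 4, 0, 4, 3, 1, 3, 0, 1, 4, 0, 4, 3, 1, 3, 0, 1, 4, 0, 4, 3, 1, 3, 0, 3, 1, 0, 4, 0, 4, 3, 1, 3, 0, 1, 4, 0, 4, 3, 1, 3, 0, 1, 4, 0, 4, 3, 1, 3, 2, 3, 2, 3, 0, 3, 2, 3, 1, 3, 0, 3, 2, 0, 1, 0, 1, 3, 0, 3, 0, 1, 4, 0, 4, 3, 1, 3, 0, 3,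 0, 3, 2, 0, 1, 0, 1, 3, 0, 3, 0, 1, 4, 0, 4, 3, 1, 3, 0, 1, 4, 0, 4, 3, 1, 3, 0, 1, 4, 0, 4, 3, 1, 3, 0, 3, 1, 2, 3, 1, 0, 3, 0, 3, 0, 3, 2, 0, 1, 0, 1, 3, 0, 3, 0, 1, 4, 0, 4, 3, 1, 3, 0, 3, 0, 1, 4, 0, 4, 3, 1, 3, 0, 1, 4, 0, 4, 3, 1, 3, 0, 1, 4, 0, 4, 3, 1, 3, 0, 3, 2, 0, 1, 0, 1, 3, 0, 3, 0, 3, 2, 0, 1, 0, 1, 3, 0, 3, 0, 3, 2, 0, 1, 0, 1, 3, 0, 3, 0, 1, 4, 0, 4, 3, 1, 3, 0, 3, 1, 0, 4, 0, 4, 3, 1, 3, 0, 1, 4, 0, 4, 3, 1, 3, 0, 1, 4, 0, 4, 3, 1, 3, 0, 3, 1, 2, 3, 1, 0, 3, 0, 3, 0, 3, 2, 0, 1, 0, 1, 3, 0, 3, 0, 1, 4, 0, 4, 3, 1, 3, 0, 3, 0, 1, 4, 0, 4, 3, 1, 3, 0, 1, 4, 0, 4, 3, 1, 3, 0, 1, 4, 0, 4, 3, 1, 3, 0, 3, 2, 0, 1, 0, 1, 3, 0, 3, 0, 3, 2, 0, 1, 0, 1, 3, 0, 3, 0, 3, 2, 0, 1, 0, 1, 3, 0, 3, 0, 1, 4, 0, 4, 3, 1, 3, 0, 3, 1, 2, 3, 1, 0, 3,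 0, 3, 0, 3, 2, 0, 1, 0, 1, 3, 0, 3, 0, 1, 4, 0, 4, 3, 1, 3, 0, 3, 0, 1, 4, 0, 4, 3, 1, 3, 0, 1, 4, 0, 4, 3, 1, 3, 0, 1, 4, 0, 4, 3, 1, 3, 0, 3, 2, 0, 1, 0, 1, 3, 0, 3, 0, 3, 2, 0, 1, 0, 1, 3, 0, 3, 0, 3, 2, 0, 1, 0, 1, 3, 0, 3, 0, 1, 4, 0, 4, 3, 1, 3, 0, 1, 4, 0, 4, 3, 1, 3, 0, 1, 4, 0, 4, 3, 1, 3, 0, 1, 4, 0, 4, 3, 1, 3, 0, 3, 1, 0, 4, 0, 4, 3, 1, 3, 0, 1, 4, 0, 4, 3, 1, 3, 0, 1, 4, 0, 4, 3, 1, 3, 4, 3, 1, 3, 0, 3, 2, 0, 1, 0, 1, 3, 0, 3, 0, 3, 2, 0, 1, 0, 1, 3, 0, 3, 0, 3, 1, 0, 4, 0, 4, 3, 1, 3, 0, 1, 4, 0, 4, 3, 1, 3, 0, 1, 4, 0, 4, 3, 1, 3, 2, 3, 1, 3, 0, 3, 2, 0, 1, 0, 1, 3, 0, 3, 0, 1, 4, 0, 4, 3, 1, 3, 0, 3, 0, 3, 2, 0, 1, 0, 1, 3, 0, 3, 0, 1, 4, 0, 4, 3, 1, 3, 0, 1, 4, 0, 4, 3, 1, 3, 0, 1, 4, 0, 4, 3, 1, 3, 0, 3, 1, 2, 3, 1, 0, 3, 0, 3,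 0, 3, 2, 0, 1, 0, 1, 3, 0, 3, 0, 1, 4, 0, 4, 3, 1, 3, 0, 3, 0, 1, 4, 0, 4, 3, 1, 3, 0, 1, 4, 0, 4, 3, 1, 3, 0, 1, 4, 0, 4, 3, 1, 3, 0, 3, 2, 0, 1, 0, 1, 3, 0, 3, 0, 3, 2, 0, 1, 0, 1, 3, 0, 3, 0, 3, 2, 0, 1, 0, 1, 3, 0, 3, 0, 1, 4, 0, 4, 3, 1, 3, 0, 3, 1, 0, 4, 0, 4, 3, 1, 3, 0, 1, 4, 0, 4, 3, 1, 3, 0, 1, 4, 0, 4, 3, 1, 3, 0, 3, 1, 2, 3, 1, 0, 3, 0, 3, 0, 3, 2, 0, 1, 0, 1, 3, 0, 3, 0, 1, 4, 0, 4, 3, 1, 3, 0, 3, 0, 1, 4, 0, 4, 3, 1, 3, 0, 1, 4, 0, 4, 3, 1, 3, 0, 1, 4, 0, 4, 3, 1, 3, 0, 3, 2, 0, 1, 0, 1, 3, 0, 3, 0, 3, 2, 0, 1, 0, 1, 3, 0, 3, 0, 3, 2, 0, 1, 0, 1, 3, 0, 3, 0, 1, 4, 0, 4, 3, 1, 3, 0, 3, 1, 2, 3, 1, 0, 3, 0, 3, 0, 3, 2, 0, 1, 0, 1, 3, 0, 3, 0, 1, 4, 0, 4, 3, 1, 3, 0, 3, 0, 1, 4, 0, 4, 3, 1, 3, 0, 1, 4, 0, 4, 3, 1, 3, 0, 1, 4, 0, 4, 3,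 1, 3, 0, 3, 2, 0, 1, 0, 1, 3, 0, 3, 0, 3, 2, 0, 1, 0, 1, 3, 0, 3, 0, 3, 2, 0, 1, 0, 1, 3, 0, 3, 0, 1, 4, 0, 4, 3, 1, 3, 0, 3, 1, 2, 3, 1, 0, 3, 0, 3, 0, 3, 2, 0, 1, 0, 1, 3, 0, 3, 0, 1, 4, 0, 4, 3, 1, 3, 0, 3, 0, 1, 4, 0, 4, 3, 1, 3, 0, 1, 4, 0, 4, 3, 1, 3, 0, 1, 4, 0, 4, 3, 1, 3, 0, 3, 2, 0, 1, 0, 1, 3, 0, 3, 0, 3, 2, 0, 1, 0, 1, 3, 0, 3, 0, 3, 2, 0, 1, 0, 1, 3, 0, 3, 0, 1, 4, 0, 4, 3, 1, 3, 2, 3, 1, 3, 0, 3, 2, 0, 1, 0, 1, 3, 0, 3, 0, 1, 4, 0, 4, 3, 1, 3, 0, 3, 0, 3, 2, 0, 1, 0, 1, 3, 0, 3, 0, 1, 4, 0, 4, 3, 1, 3, 0, 1, 4, 0, 4, 3, 1, 3, 0, 1, 4, 0, 4, 3, 1, 3, 0, 3, 1, 2, 3, 1, 0, 3, 0, 3, 0, 3, 2, 0, 1, 0, 1, 3, 0, 3, 0, 1, 4, 0, 4, 3, 1, 3, 0, 3, 0, 1, 4, 0, 4, 3, 1, 3, 0, 1, 4, 0, 4, 3, 1, 3, 0, 1, 4, 0, 4, 3, 1, 3, 0, 3, 2, 0, 1, 0, 1, 3,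 0, 3, 0, 3, 2, 0, 1, 0, 1, 3, 0, 3, 0, 3, 2, 0, 1, 0, 1, 3, 0, 3, 0, 1, 4, 0, 4, 3, 1, 3, 0, 3, 1, 0, 4, 0, 4, 3, 1, 3, 0, 1, 4, 0, 4, 3, 1, 3, 0, 1, 4, 0, 4, 3, 1, 3, 0, 3, 1, 2, 3, 1, 0, 3, 0, 3, 0, 3, 2, 0, 1, 0, 1, 3, 0, 3, 0, 1, 4, 0, 4, 3, 1, 3, 0, 3, 0, 1, 4, 0, 4, 3, 1, 3, 0, 1, 4, 0, 4, 3, 1, 3, 0, 1, 4, 0, 4, 3, 1, 3, 0, 3, 2, 0, 1, 0, 1, 3, 0, 3, 0, 3, 2, 0, 1, 0, 1, 3, 0, 3, 0, 3, 2, 0, 1, 0, 1, 3, 0, 3, 0, 1, 4, 0, 4, 3, 1, 3, 0, 3, 1, 2, 3, 1, 0, 3, 0, 3, 0, 3, 2, 0, 1, 0, 1, 3, 0, 3, 0, 1, 4, 0, 4, 3, 1, 3, 0, 3, 0, 1, 4, 0, 4, 3, 1, 3, 0, 1, 4, 0, 4, 3, 1, 3, 0, 1, 4, 0, 4, 3, 1, 3, 0, 3, 2, 0, 1, 0, 1, 3, 0, 3, 0, 3, 2, 0, 1, 0, 1, 3, 0, 3, 0, 3, 2, 0, 1, 0, 1, 3, 0, 3, 0, 1, 4, 0, 4, 3, 1, 3, 4, 3, 1, 3, 0, 3, 2, 0, 1, 0, 1, 3,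 0, 3, 0, 3, 2, 0, 1, 0, 1, 3, 0, 3, 0, 3, 1, 0, 4, 0, 4, 3, 1, 3, 0, 1, 4, 0, 4, 3, 1, 3, 0, 1, 4, 0, 4, 3, 1, 3, 2, 3, 1, 3, 0, 3, 2, 0, 1, 0, 1, 3, 0, 3, 0, 1, 4, 0, 4, 3, 1, 3, 0, 3, 0, 3, 2, 0, 1, 0, 1, 3, 0, 3, 0, 1, 4, 0, 4, 3, 1, 3, 0, 1, 4, 0, 4, 3, 1, 3, 0, 1, 4, 0, 4, 3, 1, 3, 0, 3, 1, 2, 3, 1, 0, 3, 0, 3, 0, 3, 2, 0, 1, 0, 1, 3, 0, 3, 0, 1, 4, 0, 4, 3, 1, 3, 0, 3, 0, 1, 4, 0, 4, 3, 1, 3, 0, 1, 4, 0, 4, 3, 1, 3, 0, 1, 4, 0, 4, 3, 1, 3, 0, 3, 2, 0, 1, 0, 1, 3, 0, 3, 0, 3, 2, 0, 1, 0, 1, 3, 0, 3, 0, 3, 2, 0, 1, 0, 1, 3, 0, 3, 0, 1, 4, 0, 4, 3, 1, 3, 0, 3, 1, 0, 4, 0, 4, 3, 1, 3, 0, 1, 4, 0, 4, 3, 1, 3, 0, 1, 4, 0, 4, 3, 1, 3, 0, 3, 1, 2, 3, 1, 0, 3, 0, 3, 0, 3, 2, 0, 1, 0, 1, 3, 0, 3, 0, 1, 4, 0, 4, 3, 1, 3, 0, 3, 0, 1, 4, 0, 4, 3, 1, 3,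 0, 1, 4, 0, 4, 3, 1, 3, 0, 1, 4, 0, 4, 3, 1, 3, 0, 3, 2, 0, 1, 0, 1, 3, 0, 3, 0, 3, 2, 0, 1, 0, 1, 3, 0, 3, 0, 3, 2, 0, 1, 0, 1, 3, 0, 3, 0, 1, 4, 0, 4, 3, 1, 3, 0, 3, 1, 2, 3, 1, 0, 3, 0, 3, 0, 3, 2, 0, 1, 0, 1, 3, 0, 3, 0, 1, 4, 0, 4, 3, 1, 3, 0, 3, 0, 1, 4, 0, 4, 3, 1, 3, 0, 1, 4, 0, 4, 3, 1, 3, 0, 1, 4, 0, 4, 3, 1, 3, 0, 3, 2, 0, 1, 0, 1, 3, 0, 3, 0, 3, 2, 0, 1, 0, 1, 3, 0, 3, 0, 3, 2, 0, 1, 0, 1, 3, 0, 3, 0, 1, 4, 0, 4, 3, 1, 3, 4, 3, 1, 3, 0, 3, 2, 0, 1, 0, 1, 3, 0, 3, 0, 3, 2, 0, 1, 0, 1, 3, 0, 3, 0, 3, 1, 0, 4, 0, 4, 3, 1, 3, 0, 1, 4, 0, 4, 3, 1, 3, 0, 1, 4, 0, 4, 3, 1, 3, 0]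

theorem xs_ok : ∀ P ∈ xs, P.ok 275 = true := by decide +kernel

theorem own_ok : ∀ P ∈ mcL1.own, P.ok 275 = true := by
  intro P hP
  change P ∈ [mpgen mcT1x0 mcI1x0, mpgen mcT1x1 mcI1x1] at hP
  simp only [List.mem_cons, List.not_mem_nil, or_false] at hP
  rcases hP with rfl | rfl
  · exact mpok _ mpmem0
  · exact mpok _ mpmem1

theorem perm_eq_word {T : ℕ} {w : List ℕ} (hT : xP T ∈ xs)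
    (h : pgAll 275 (fun p => Nat.beq (mplk T p) (pgEvalW mcL1.own w p)) = true) :
    (xP T).perm 275 = pgWordPerm 275 mcL1.own w := by
  ext i
  rw [PFun.perm_apply (xs_ok _ hT), pgWordPerm_apply own_ok]
  have := (pgAll_iff _ _).1 h i.1 i.2
  rw [Nat.beq_eq] at this
  exact this

theorem x0_eq : (xP xT0).perm 275 = pgWordPerm 275 mcL1.own xw0 :=
  perm_eq_word (by simp [xs]) (by decide +kernel)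
theorem x1_eq : (xP xT1).perm 275 = pgWordPerm 275 mcL1.own xw1 :=
  perm_eq_word (by simp [xs]) (by decide +kernel)
theorem x2_eq : (xP xT2).perm 275 = pgWordPerm 275 mcL1.own xw2 :=
  perm_eq_word (by simp [xs]) (by decide +kernel)
theorem x3_eq : (xP xT3).perm 275 = pgWordPerm 275 mcL1.own xw3 :=
  perm_eq_word (by simp [xs]) (by decide +kernel)
theorem x4_eq : (xP xT4).perm 275 = pgWordPerm 275 mcL1.own xw4 :=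
  perm_eq_word (by simp [xs]) (by decide +kernel)

theorem word_mem (w : List ℕ) : pgWordPerm 275 mcL1.own w ∈ M275 := by
  have := pgWordPerm_mem own_ok w
  rw [mpset_eq] at this
  exact this

theorem xs_mem : ∀ P ∈ xs, P.perm 275 ∈ M275 := by
  intro P hP
  simp only [xs, List.mem_cons, List.not_mem_nil, or_false] at hP
  rcases hP with rfl | rfl | rfl | rfl | rfl
  · rw [x0_eq]; exact word_mem _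
  · rw [x1_eq]; exact word_mem _
  · rw [x2_eq]; exact word_mem _
  · rw [x3_eq]; exact word_mem _
  · rw [x4_eq]; exact word_mem _

/-- the permutation of a letter -/
def xel (s : ℕ) : Equiv.Perm (Fin 275) := (pgLetter xs s).perm 275

theorem wprod_xel (w : List ℕ) : wprod xel w = pgWordPerm 275 xs w := rfl

theorem xel_mem (s : ℕ) : xel s ∈ M275 := by
  have h : xel s ∈ Subgroup.closure (pgSet 275 xs) := pgLetter_mem xs_ok s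
  have hle : Subgroup.closure (pgSet 275 xs) ≤ M275 := by
    rw [Subgroup.closure_le]
    rintro _ ⟨P, hP, rfl⟩
    exact xs_mem P hP
  exact hle h

/-- the letters as elements of the group -/
def xM (s : ℕ) : ↥M275 := ⟨xel s, xel_mem s⟩

theorem rels_chk : Pres5.baseL.all (fun b => pgAll 275 (fun p => Nat.beq (pgEvalW xs b p) p)) = true := by
  decide +kernel

theorem wprod_xM (w : List ℕ) : ((wprod xM w : ↥M275) : Equiv.Perm (Fin 275)) = pgWordPerm 275 xs w := by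
  have := WPres.wprod_map (Subgroup.subtype M275) xM w
  rw [Subgroup.coe_subtype] at this
  rw [← this]
  rfl

theorem rels_hold : ∀ b ∈ Pres5.baseL, wprod xM b = 1 := by
  intro b hb
  apply Subtype.ext
  rw [wprod_xM]
  exact pgWordPerm_eq_one xs_ok (List.all_eq_true.mp rels_chk b hb)

/-- the homomorphism of the presented group onto the group on 275 points -/
noncomputable def phi : Pres5.Grp →* ↥M275 := (Pres5.hliftG xM rels_hold).choose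

theorem phi_v : ∀ s < 5, phi (Pres5.v s) = xM s := (Pres5.hliftG xM rels_hold).choose_spec

theorem phi_wprod (w : List ℕ) (hw : ∀ s ∈ w, s < 5) : phi (wprod Pres5.v w) = wprod xM w := by
  induction w with
  | nil => rw [wprod_nil, wprod_nil, map_one]
  | cons s w ih =>
    rw [wprod_cons, wprod_cons, map_mul, ih (fun t ht => hw t (List.mem_cons_of_mem _ ht)),
      phi_v s (hw s List.mem_cons_self)]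

theorem wa_lt : ∀ s ∈ wa, s < 5 := by decide
theorem wg_lt : ∀ s ∈ wg, s < 5 := by decide

theorem wa_chk : pgAll 275 (fun p => Nat.beq (pgEvalW xs wa p) (mplk mcT1x0 p)) = true := by
  decide +kernel
theorem wg_chk : pgAll 275 (fun p => Nat.beq (pgEvalW xs wg p) (mplk mcT1x1 p)) = true := by
  decide +kernel

theorem wa_eq : pgWordPerm 275 xs wa = mpSa := by
  rw [← mpgen_eq0]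
  ext i
  rw [pgWordPerm_apply xs_ok, PFun.perm_apply (mpok _ mpmem0)]
  have := (pgAll_iff _ _).1 wa_chk i.1 i.2
  rw [Nat.beq_eq] at this
  exact this

theorem wg_eq : pgWordPerm 275 xs wg = mpSg := by
  rw [← mpgen_eq1]
  ext i
  rw [pgWordPerm_apply xs_ok, PFun.perm_apply (mpok _ mpmem1)]
  have := (pgAll_iff _ _).1 wg_chk i.1 i.2
  rw [Nat.beq_eq] at this
  exact this

theorem phi_surjective : Function.Surjective phi := by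
  rw [← MonoidHom.range_eq_top, eq_top_iff]
  rintro ⟨y, hy⟩ _
  have key : ∀ y (hy : y ∈ M275), (⟨y, hy⟩ : ↥M275) ∈ phi.range := by
    intro y hy
    induction hy using Subgroup.closure_induction with
    | mem y hy =>
      rcases hy with rfl | hy
      · refine ⟨wprod Pres5.v wa, ?_⟩
        rw [phi_wprod wa wa_lt]
        apply Subtype.ext
        rw [wprod_xM]
        exact wa_eq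
      · rw [Set.mem_singleton_iff] at hy
        subst hy
        refine ⟨wprod Pres5.v wg, ?_⟩
        rw [phi_wprod wg wg_lt]
        apply Subtype.ext
        rw [wprod_xM]
        exact wg_eq
    | one => exact one_mem _
    | mul a b ha hb iha ihb => exact mul_mem iha ihb
    | inv a ha iha => exact inv_mem iha
  exact key y hy

/-- the letters generate the group on 275 points -/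
theorem xM_gen : Subgroup.closure {y : ↥M275 | ∃ s < 5, y = xM s} = ⊤ := by
  rw [eq_top_iff]
  intro y _
  obtain ⟨γ, rfl⟩ := phi_surjective y
  have hγ := Pres5.hgen γ
  clear * - hγ
  induction hγ using Subgroup.closure_induction with
  | mem z hz =>
    obtain ⟨s, hs, rfl⟩ := hz
    rw [phi_v s hs]
    exact Subgroup.subset_closure ⟨s, hs, rfl⟩
  | one => rw [map_one]; exact one_mem _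
  | mul a b ha hb iha ihb => rw [map_mul]; exact mul_mem iha ihb
  | inv a ha iha => rw [map_inv]; exact inv_mem iha

end Cfsg.Agent.Lib.Helper12.McLM.Model
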