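import Cfsg.Agent.Lib.Helper12.TCG.McLAx40320.Rho
import Cfsg.Agent.Lib.Helper12.TCG.McLCx66825.Rho
import Cfsg.Agent.Lib.Helper12.McLM.Certs
import Cfsg.Agent.Lib.Helper12.Ord.SubPres

/-!
The group presented on the five involutions has at most `66825 * 40320` elements: the subgroup generated by
the first four letters has index `66825` and is a quotient of the group presented on four letters, which has
`40320` elements (helper12).
-/

set_option autoImplicit false
set_option maxRecDepth 100000

namespace Cfsg.Agent.Lib.Helper12.McLM.Order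

open Cfsg.Agent.Lib.Helper12.TC Cfsg.Agent.Lib.Helper12.TCG Cfsg.Agent.Lib.Helper12.Ord
  Cfsg.Agent.Lib.Helper12.McLM

theorem hs4_bot : McLAx40320.Hs = ⊥ := by
  rw [McLAx40320.hH, Subgroup.closure_eq_bot_iff]
  rintro γ ⟨w, hw, rfl⟩
  exact absurd hw List.not_mem_nil

theorem card4 : Finite Pres4.Grp ∧ Nat.card Pres4.Grp = 40320 :=
  card_of_index_bot McLAx40320.Hs 40320 (by decide) McLAx40320.rho_index hs4_bot

instance finite4 : Finite Pres4.Grp := card4.1

theorem base4_holds : ∀ b ∈ Pres4.baseL, wprod Pres5.v b = 1 :=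
  fun b hb => Pres5.hbase b (Certs.base4_sub b hb)

/-- the homomorphism from the group on four letters -/
noncomputable def iota : Pres4.Grp →* Pres5.Grp := (Pres4.hliftG Pres5.v base4_holds).choose

theorem iota_v : ∀ s < 4, iota (Pres4.v s) = Pres5.v s :=
  (Pres4.hliftG Pres5.v base4_holds).choose_spec

theorem hs5_le : McLCx66825.Hs ≤ iota.range := by
  rw [McLCx66825.hH, Subgroup.closure_le]
  rintro γ ⟨w, hw, rfl⟩
  have hw' : w = [0] ∨ w = [1] ∨ w = [2] ∨ w = [3] := by simpa [McLCx66825.sw] using hw
  rcases hw' with rfl | rfl | rfl | rfl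
  · exact ⟨Pres4.v 0, by rw [iota_v 0 (by decide), wprod_cons, wprod_nil, mul_one]⟩
  · exact ⟨Pres4.v 1, by rw [iota_v 1 (by decide), wprod_cons, wprod_nil, mul_one]⟩
  · exact ⟨Pres4.v 2, by rw [iota_v 2 (by decide), wprod_cons, wprod_nil, mul_one]⟩
  · exact ⟨Pres4.v 3, by rw [iota_v 3 (by decide), wprod_cons, wprod_nil, mul_one]⟩

theorem hs5_card : Finite McLCx66825.Hs ∧ Nat.card McLCx66825.Hs ≤ 40320 := by
  have hfr : Finite iota.range := Finite.of_surjective _ iota.rangeRestrict_surjective
  have hcr : Nat.card iota.range ≤ 40320 := by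
    rw [← card4.2]
    exact Nat.card_le_card_of_surjective _ iota.rangeRestrict_surjective
  have hinj : Function.Injective (Subgroup.inclusion hs5_le) := Subgroup.inclusion_injective _
  exact ⟨Finite.of_injective _ hinj, (Nat.card_le_card_of_injective _ hinj).trans hcr⟩

theorem finite_card_le : Finite Pres5.Grp ∧ Nat.card Pres5.Grp ≤ 2694384000 := by
  have h := card_le_of_index McLCx66825.Hs 66825 40320 (by decide) McLCx66825.rho_index
    hs5_card.1 hs5_card.2
  exact ⟨h.1, h.2.trans (by norm_num)⟩

instance finite5 : Finite Pres5.Grp := finite_card_le.1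

end Cfsg.Agent.Lib.Helper12.McLM.Order
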