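import Cfsg.Agent.Lib.helper23.Mc2C
import Cfsg.Agent.Lib.helper23.PerfectCover
import Cfsg.Agent.Lib.helper3.AltStepF
import Cfsg.Agent.Lib.Helper5.StemX
import Cfsg.Agent.Lib.Helper21.SchurCyclic
import Cfsg.Agent.Lib.Helper12.MultRestrict

/-!
The order of the kernel of a finite stem extension of the group of McLaughlin on 275 points is odd: the centralizer
of an involution has odd index and is a perfect central extension by a group of order two of the alternating group of
degree eight, the kernels of whose stem extensions have at most two elements; so the stem extensions of the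
centralizer are trivial (helper12).
-/

set_option autoImplicit false

namespace Cfsg.Agent.Lib.Helper12.McLM.TwoPart

open Cfsg.Agent.Lib.helper23 Cfsg.Agent.Lib.helper14.MP Cfsg.Agent.Lib.helper3

theorem alt8_perfect : commutator (alternatingGroup (Fin 8)) = ⊤ :=
  commutator_alternatingGroup_eq_top (by rw [Nat.card_fin]; norm_num)

instance alt8_isPerfect : Group.IsPerfect (alternatingGroup (Fin 8)) := ⟨alt8_perfect⟩

theorem tD_sq : mc2tD * mc2tD = 1 := Subtype.ext mc2t_sq

/-- every element of the centralizer is a product of commutators, up to the central involution -/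
theorem exists_comm_mul (d : D275) :
    ∃ c ∈ commutator D275, d = c ∨ d = c * mc2tD := by
  have hmap : (commutator D275).map mc2psi = ⊤ := by
    rw [commutator_def, Subgroup.map_commutator, ← MonoidHom.range_eq_map,
      MonoidHom.range_eq_top.mpr mc2psi_surjective, ← commutator_def, alt8_perfect]
  have hd : mc2psi d ∈ (commutator D275).map mc2psi := by rw [hmap]; trivial
  obtain ⟨c, hc, hcd⟩ := hd
  refine ⟨c, hc, ?_⟩
  have hk : mc2psi (c⁻¹ * d) = 1 := by rw [map_mul, map_inv, hcd, inv_mul_cancel]
  rcases mc2psi_ker _ hk with h | h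
  · left
    exact (inv_mul_eq_one.mp h).symm
  · right
    rw [← h, mul_inv_cancel_left]

theorem tD_mem_commutator : mc2tD ∈ commutator D275 := by
  have hcen : ∀ g : D275, g * mc2tD = mc2tD * g := Subgroup.mem_center_iff.mp mc2tD_center
  obtain ⟨c, hc, h | h⟩ := exists_comm_mul mc2yD
  · rw [← mc2yD_sq, h]
    exact mul_mem hc hc
  · have : mc2tD = c * c := by
      rw [← mc2yD_sq, h]
      calc c * mc2tD * (c * mc2tD) = c * (mc2tD * c) * mc2tD := by group
        _ = c * (c * mc2tD) * mc2tD := by rw [hcen c]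
        _ = c * c * (mc2tD * mc2tD) := by group
        _ = c * c := by rw [tD_sq, mul_one]
    rw [this]
    exact mul_mem hc hc

theorem D275_perfect : commutator D275 = ⊤ := by
  rw [eq_top_iff]
  intro d _
  obtain ⟨c, hc, h | h⟩ := exists_comm_mul d
  · rw [h]; exact hc
  · rw [h]; exact mul_mem hc tD_mem_commutator

instance D275_isPerfect : Group.IsPerfect D275 := ⟨D275_perfect⟩

theorem psi_ker_le : mc2psi.ker ≤ Subgroup.center D275 := by
  intro h hh
  rcases mc2psi_ker h hh with rfl | rfl
  · exact one_mem _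
  · exact mc2tD_center

/-- the stem extensions of the centralizer are trivial -/
theorem D275_stem_trivial {Γ : Type} [Group Γ] [Finite Γ] (σ : Γ →* D275)
    (hσ : Cfsg.IsStemExtension σ) : ∀ x ∈ σ.ker, x = 1 := by
  set τ : Γ →* alternatingGroup (Fin 8) := mc2psi.comp σ with hτ
  have hperf : commutator Γ = ⊤ := pcv_perfect_of_stem σ hσ
  have hτstem : Cfsg.IsStemExtension τ := by
    refine ⟨mc2psi_surjective.comp hσ.1, pcv_comp_central σ hσ mc2psi psi_ker_le, ?_⟩
    rw [hperf]
    exact le_top
  have hcard : Nat.card τ.ker ≤ 2 := alt_ge_eight_card_le 8 le_rfl τ hτstem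
  have hle : σ.ker ≤ τ.ker := by
    intro x hx
    rw [MonoidHom.mem_ker] at hx ⊢
    rw [hτ, MonoidHom.comp_apply, hx, map_one]
  obtain ⟨g, hg⟩ := hσ.1 mc2tD
  have hgτ : g ∈ τ.ker := by
    rw [MonoidHom.mem_ker, hτ, MonoidHom.comp_apply, hg, mc2psi_tD]
  have hgσ : g ∉ σ.ker := by
    rw [MonoidHom.mem_ker, hg]
    exact mc2tD_ne
  have hdvd : Nat.card σ.ker ∣ Nat.card τ.ker := Subgroup.card_dvd_of_le hle
  have hpos : 0 < Nat.card τ.ker := Nat.card_pos
  have hne : σ.ker ≠ τ.ker := fun h => hgσ (h ▸ hgτ)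
  have h1 : Nat.card σ.ker = 1 := by
    have hle2 : Nat.card σ.ker ≤ Nat.card τ.ker := Nat.le_of_dvd hpos hdvd
    have hpos2 : 0 < Nat.card σ.ker := Nat.card_pos
    by_contra hcon
    have h2 : Nat.card σ.ker = 2 := by omega
    have h3 : Nat.card τ.ker = 2 := by omega
    exact hne (Subgroup.eq_of_le_of_card_ge hle (by rw [h2, h3]))
  intro x hx
  have := Subgroup.eq_bot_of_card_eq σ.ker h1
  rw [this] at hx
  exact Subgroup.mem_bot.mp hx

theorem D275_le_M275 : D275 ≤ M275 := by
  rw [M275_eq, D275_eq]
  exact inf_le_left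

/-- the centralizer as a subgroup of the group on 275 points -/
noncomputable def U : Subgroup ↥M275 := D275.subgroupOf M275

/-- the isomorphism -/
noncomputable def eU : ↥U ≃* ↥D275 := Subgroup.subgroupOfEquivOfLe D275_le_M275

theorem U_mult : Cfsg.HasCyclicSchurMultiplier ↥U 1 := by
  apply Cfsg.Agent.Lib.Helper5.Stem.hasSchurMultiplier_of_equiv eU
  · exact Cfsg.Agent.Lib.Helper21.exists_trivial_stem ↥D275
  · intro Γ _ _ σ hσ
    refine ⟨1, ?_⟩
    intro y
    refine ⟨1, ?_⟩
    apply Subtype.ext
    rw [MonoidHom.one_apply]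
    exact (D275_stem_trivial σ hσ y.1 y.2).symm

theorem U_index : U.index = 22275 := by
  have h1 := U.index_mul_card
  rw [Nat.card_congr eU.toEquiv, D275_card, M275_card] at h1
  exact Nat.eq_of_mul_eq_mul_right (by norm_num : 0 < 40320) (h1.trans (by norm_num))

/-- the order of the kernel of a finite stem extension of the group on 275 points is odd -/
theorem odd_card_ker {Γ : Type} [Group Γ] [Finite Γ] (σ : Γ →* ↥M275)
    (hσ : Cfsg.IsStemExtension σ) : Odd (Nat.card σ.ker) := by
  have : Fact (Nat.Prime 2) := ⟨Nat.prime_two⟩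
  have : Finite ↥M275 := Nat.finite_of_card_ne_zero (by rw [M275_card]; norm_num)
  have h := Cfsg.Agent.Lib.Helper12.MultRestrict.not_dvd_card_ker_of_trivial U U_mult 2
    (by rw [U_index]; norm_num) σ hσ
  rw [← Nat.not_even_iff_odd, even_iff_two_dvd]
  exact h

end Cfsg.Agent.Lib.Helper12.McLM.TwoPart
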