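import Cfsg.Agent.Lib.Helper12.McLM.Order
import Cfsg.Agent.Lib.Helper12.McLM.Model
import Cfsg.Agent.Lib.Helper12.McLM.Certs

/-!
The kernel of a finite stem extension of the group of McLaughlin on 275 points has at most three elements if its
order is odd: the group presented on the five involutions maps onto the extension (helper12).
-/

set_option autoImplicit false

namespace Cfsg.Agent.Lib.Helper12.McLM.Upper

open Cfsg.Agent.Lib.Helper12.TC Cfsg.Agent.Lib.Helper12.TCG Cfsg.Agent.Lib.Helper12.McLM
  Cfsg.Agent.Lib.helper14.MP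

theorem card_eq_mul {Γ : Type*} [Group Γ] (σ : Γ →* ↥M275) (hs : Function.Surjective σ) :
    Nat.card Γ = 898128000 * Nat.card σ.ker := by
  have h1 := Subgroup.card_eq_card_quotient_mul_card_subgroup σ.ker
  have e := QuotientGroup.quotientKerEquivOfSurjective σ hs
  rw [Nat.card_congr e.toEquiv, M275_card] at h1
  exact h1

theorem card_ker_le_of_odd {Γ : Type} [Group Γ] [Finite Γ] (σ : Γ →* ↥M275)
    (hσ : Cfsg.IsStemExtension σ) (hodd : Odd (Nat.card σ.ker)) : Nat.card σ.ker ≤ 3 := by
  obtain ⟨ψ, hψ, -⟩ := OddLift.exists_surj_of_odd_stem σ hσ hodd 5 Pres5.baseL Pres5.hlet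
    Certs.certs5 Certs.shape5 Certs.sq5 Model.xM Model.rels_hold Model.xM_gen
  have := Order.finite5
  have h1 : Nat.card Γ ≤ Nat.card Pres5.Grp := Nat.card_le_card_of_surjective ψ hψ
  have h2 := Order.finite_card_le.2
  have h3 := card_eq_mul σ hσ.1
  omega

end Cfsg.Agent.Lib.Helper12.McLM.Upper
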